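import Mathlib
import Cfsg.Agent.H160.QFinal

/-!
# The group `Ω` of a quadratic space over a finite field of odd order (helper229)

`Om Q` : the isometries of determinant one and spinor sign one. Transport, orthogonal sums, comparison with `POmega`.
-/

set_option autoImplicit false
set_option linter.unusedSectionVars false

namespace Cfsg.Agent.H229.T

open QuadraticMap Module
open Cfsg.Agent.LieClassical.OrthCore Cfsg.Agent.LieClassical.OrthForms Cfsg.Agent.LieClassical.OrthFinite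
open Cfsg.Agent.H160.QSpin Cfsg.Agent.H160.QDisc Cfsg.Agent.H160.QFinal

section

variable {F V W : Type*} [Field F] [AddCommGroup V] [Module F V] [AddCommGroup W] [Module F W] [Finite V] [Finite W]

/-- the isometries of determinant one and spinor sign one -/
def Om (Q : QuadraticForm F V) : Subgroup (V ≃ₗ[F] V) where
  carrier := {g | El Q 1 g}
  mul_mem' := fun {a b} ha hb => by
    have := El.mul ha hb
    rwa [one_mul] at this
  one_mem' := El.one Q
  inv_mem' := fun {a} ha => by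
    obtain ⟨h1, h2, h3⟩ := ha
    refine ⟨(O Q).inv_mem h1, by rw [map_inv, h2, inv_one], ?_⟩
    have h4 : (⟨a⁻¹, (O Q).inv_mem h1⟩ : O Q) = (⟨a, h1⟩ : O Q)⁻¹ := rfl
    rw [h4, map_inv, h3, inv_one]

theorem mem_Om {Q : QuadraticForm F V} {g : V ≃ₗ[F] V} : g ∈ Om Q ↔ El Q 1 g := Iff.rfl

theorem Om_le_O (Q : QuadraticForm F V) : Om Q ≤ O Q := fun _ h => h.1

/-- commutators of isometries -/
theorem comm_mem_Om {Q : QuadraticForm F V} {g h : V ≃ₗ[F] V} (hg : g ∈ O Q) (hh : h ∈ O Q) :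
    g * h * g⁻¹ * h⁻¹ ∈ Om Q := by
  refine ⟨(O Q).mul_mem ((O Q).mul_mem ((O Q).mul_mem hg hh) ((O Q).inv_mem hg)) ((O Q).inv_mem hh), ?_, ?_⟩
  · rw [map_mul, map_mul, map_mul, map_inv, map_inv, mul_comm (LinearEquiv.det g) (LinearEquiv.det h),
      mul_inv_cancel_right, mul_inv_cancel]
  · have h4 : (⟨g * h * g⁻¹ * h⁻¹, (O Q).mul_mem ((O Q).mul_mem ((O Q).mul_mem hg hh) ((O Q).inv_mem hg))
        ((O Q).inv_mem hh)⟩ : O Q) = (⟨g, hg⟩ : O Q) * ⟨h, hh⟩ * (⟨g, hg⟩ : O Q)⁻¹ * (⟨h, hh⟩ : O Q)⁻¹ := rfl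
    rw [h4, map_mul, map_mul, map_mul, map_inv, map_inv, mul_comm (spin Q ⟨g, hg⟩) (spin Q ⟨h, hh⟩),
      mul_inv_cancel_right, mul_inv_cancel]

/-- conjugates under isometries -/
theorem conj_mem_Om {Q : QuadraticForm F V} {g h : V ≃ₗ[F] V} (hg : g ∈ O Q) (hh : h ∈ Om Q) :
    g * h * g⁻¹ ∈ Om Q := by
  have h1 := (Om Q).mul_mem (comm_mem_Om hg (Om_le_O Q hh)) hh
  rwa [inv_mul_cancel_right] at h1

/-- transport -/
def omCongr {Q : QuadraticForm F V} {Q' : QuadraticForm F W} {e : V ≃ₗ[F] W} (he : IsIso Q Q' e) : Om Q ≃* Om Q' where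
  toFun g := ⟨cj e g.1, El.cj he g.2⟩
  invFun g := ⟨cj e.symm g.1, El.cj he.symm g.2⟩
  left_inv g := Subtype.ext (by
    show cj e.symm (cj e g.1) = g.1
    ext v
    simp [cj_apply])
  right_inv g := Subtype.ext (by
    show cj e (cj e.symm g.1) = g.1
    ext v
    simp [cj_apply])
  map_mul' g h := Subtype.ext (cj_mul e g.1 h.1)

theorem omCongr_coe {Q : QuadraticForm F V} {Q' : QuadraticForm F W} {e : V ≃ₗ[F] W} (he : IsIso Q Q' e) (g : Om Q) :
    ((omCongr he g : Om Q') : W ≃ₗ[F] W) = cj e g := rfl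

/-- the second factor of an orthogonal sum -/
def omRight [Finite F] [Module.Finite F V] [Module.Finite F W] (h2 : (2 : F) ≠ 0) {Q₁ : QuadraticForm F V}
    {Q₂ : QuadraticForm F W} (h₁ : Nondeg Q₁) (h₂ : Nondeg Q₂) : Om Q₂ →* Om (Q₁.prod Q₂) where
  toFun h := ⟨pr 1 h.1, by
    have := El.pr h2 h₁ h₂ (El.one Q₁) h.2
    rwa [one_mul] at this⟩
  map_one' := rfl
  map_mul' g h := Subtype.ext (by
    show pr 1 (g.1 * h.1) = pr 1 g.1 * pr 1 h.1
    rw [← pr_mul, one_mul])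

theorem omRight_coe [Finite F] [Module.Finite F V] [Module.Finite F W] (h2 : (2 : F) ≠ 0) {Q₁ : QuadraticForm F V}
    {Q₂ : QuadraticForm F W} (h₁ : Nondeg Q₁) (h₂ : Nondeg Q₂) (h : Om Q₂) :
    ((omRight h2 h₁ h₂ h : Om (Q₁.prod Q₂)) : (V × W) ≃ₗ[F] (V × W)) = pr 1 h.1 := rfl

theorem omRight_injective [Finite F] [Module.Finite F V] [Module.Finite F W] (h2 : (2 : F) ≠ 0)
    {Q₁ : QuadraticForm F V} {Q₂ : QuadraticForm F W} (h₁ : Nondeg Q₁) (h₂ : Nondeg Q₂) :
    Function.Injective (omRight h2 h₁ h₂) := by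
  intro g h hgh
  apply Subtype.ext
  ext w
  have h1 : (pr (1 : V ≃ₗ[F] V) g.1) (0, w) = (pr (1 : V ≃ₗ[F] V) h.1) (0, w) :=
    congrArg (fun k : Om (Q₁.prod Q₂) => k.1 (0, w)) hgh
  exact congrArg Prod.snd h1

end

section

variable {F : Type*} [Field F] [Finite F] {ι : Type} [Fintype ι] [DecidableEq ι]

/-- `POmega` in odd dimension -/
theorem exists_pomega (h2 : (2 : F) ≠ 0) {Q : QuadraticForm F (ι → F)} (hQ : Nondeg Q) (hd : 5 ≤ Fintype.card ι)
    (hodd : Odd (Fintype.card ι)) : Nonempty (Cfsg.POmega F ⇑Q ≃* Om Q) := by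
  have hG := good_of_finite hQ (by rwa [finrank_fintype_fun_eq_card])
  have hcen : Subgroup.center (Cfsg.Omega F ⇑Q) = ⊥ := by
    obtain ⟨w, hw0, hw⟩ := hG.sing
    exact Cfsg.Agent.LieClassical.OrthCenter.center_omega_eq_bot_of_odd h2 (nondeg_bilin hQ) (by omega) hodd
      ⟨w, hw0, hw⟩
  let e : Cfsg.POmega F ⇑Q ≃* Cfsg.Omega F ⇑Q :=
    (QuotientGroup.quotientMulEquivOfEq hcen).trans QuotientGroup.quotientBot
  let f : Cfsg.Omega F ⇑Q →* Om Q :=
    { toFun := fun x => ⟨lin Q x, el_lin h2 hQ hd x⟩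
      map_one' := Subtype.ext (map_one (lin Q))
      map_mul' := fun x y => Subtype.ext (map_mul (lin Q) x y) }
  have hf : Function.Bijective f := by
    constructor
    · intro x y hxy
      exact lin_injective Q (congrArg (fun z : Om Q => z.1) hxy)
    · rintro ⟨g, hg⟩
      obtain ⟨x, hx⟩ := exists_lin h2 hQ hd hg
      exact ⟨x, Subtype.ext hx⟩
  exact ⟨e.trans (MulEquiv.ofBijective f hf)⟩

end

section Nine

variable {F : Type*} [Field F] [Fintype F] [DecidableEq F]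

omit [DecidableEq F] in
theorem two_ne_zero_of_odd (hodd : Odd (Fintype.card F)) : (2 : F) ≠ 0 := by
  obtain ⟨p, hchar⟩ := CharP.exists F
  have hp0 : p.Prime := CharP.char_is_prime F p
  intro h
  have h3 : p = 2 := by
    have h4 : ((2 : ℕ) : F) = 0 := by exact_mod_cast h
    exact (Nat.prime_dvd_prime_iff_eq hp0 Nat.prime_two).1 ((CharP.cast_eq_zero_iff F p 2).1 h4)
  subst h3
  obtain ⟨n, -, hn⟩ := FiniteField.card F 2
  rw [hn] at hodd
  exact absurd hodd (by simp [Nat.odd_pow_iff n.ne_zero])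

/-- `PΩ₉(q)` on an arbitrary nine dimensional space of the right class -/
theorem exists_nine (h2 : (2 : F) ≠ 0) {V : Type*} [AddCommGroup V] [Module F V] [FiniteDimensional F V] [Finite V]
    {Q : QuadraticForm F V} (hQ : Nondeg Q) (hV : finrank F V = 9) (hc : dc Q = dc (oddForm 4 F)) :
    Nonempty (Cfsg.POmega F (Cfsg.quadFormOdd 4 F) ≃* Om Q) := by
  obtain ⟨e, he⟩ := exists_iso h2 (nondeg_oddForm 4 F h2) hQ (by simp [hV]) hc.symm
  obtain ⟨f⟩ := exists_pomega h2 (nondeg_oddForm 4 F h2) (by simp) (by simp; decide)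
  rw [← coe_oddForm]
  exact ⟨f.trans (omCongr he)⟩

end Nine

end Cfsg.Agent.H229.T
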