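import Mathlib
import Cfsg.Agent.H229.T.Om

/-!
# Orthogonal frames of vectors of equal norm in odd dimension (helper229)

`D n c` : the form `c ∑ xᵢ²` on `ZMod n → F`; `ds t` : sign changes; `rot k` : cyclic shifts;
`ψ t = [ds t, rot m]` for `n = 3 m`; the Frobenius groups `2² : 3` (`n = 3`) and `2⁶ : 9` (`n = 9`).
-/

set_option autoImplicit false
set_option linter.unusedSectionVars false

namespace Cfsg.Agent.H229.T

open QuadraticMap Module
open Cfsg.Agent.LieClassical.OrthCore Cfsg.Agent.LieClassical.OrthForms Cfsg.Agent.LieClassical.OrthFinite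
open Cfsg.Agent.H160 Cfsg.Agent.H160.QSpin Cfsg.Agent.H160.QDisc Cfsg.Agent.H160.QFinal Cfsg.Agent.H160.QModel
open Cfsg.Agent.H160.QReal

section

variable {F : Type*} [Field F] {n : ℕ} [NeZero n]

/-- the bilinear form -/
noncomputable def bd (F : Type*) [Field F] (n : ℕ) [NeZero n] (c : F) : LinearMap.BilinForm F (ZMod n → F) :=
  LinearMap.mk₂ F (fun x y => c * ∑ i, x i * y i)
    (fun x x' y => by simp only [Pi.add_apply, add_mul, Finset.sum_add_distrib, mul_add])
    (fun a x y => by simp only [Pi.smul_apply, smul_eq_mul, mul_assoc, ← Finset.mul_sum]; ring)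
    (fun x y y' => by simp only [Pi.add_apply, mul_add, Finset.sum_add_distrib])
    (fun a x y => by
      simp only [Pi.smul_apply, smul_eq_mul, mul_left_comm _ a, ← Finset.mul_sum])

/-- the form `c ∑ xᵢ²` -/
noncomputable def D (F : Type*) [Field F] (n : ℕ) [NeZero n] (c : F) : QuadraticForm F (ZMod n → F) := qf (bd F n c)

theorem bd_apply (c : F) (x y : ZMod n → F) : bd F n c x y = c * ∑ i, x i * y i := rfl

theorem D_apply (c : F) (x : ZMod n → F) : D F n c x = c * ∑ i, x i * x i := rfl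

theorem polar_D (c : F) (x y : ZMod n → F) : polar (D F n c) x y = 2 * c * ∑ i, x i * y i := by
  rw [D, polar_qf, bd_apply, bd_apply]
  have : ∑ i, y i * x i = ∑ i, x i * y i := Finset.sum_congr rfl fun i _ => mul_comm _ _
  rw [this]; ring

theorem nondeg_D (h2 : (2 : F) ≠ 0) {c : F} (hc : c ≠ 0) : Nondeg (D F n c) := by
  intro x hx
  funext i
  have := hx (Pi.single i 1)
  rw [polar_D] at this
  simp only [Pi.single_apply, mul_ite, mul_one, mul_zero, Finset.sum_ite_eq', Finset.mem_univ, if_true] at this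
  exact (mul_eq_zero.1 this).resolve_left (mul_ne_zero h2 hc)

/-- sign changes -/
def ds (F : Type*) [Field F] {n : ℕ} (t : ZMod n → ℤˣ) : (ZMod n → F) ≃ₗ[F] (ZMod n → F) where
  toFun x := fun i => ((t i : ℤ) : F) * x i
  map_add' x y := by funext i; simp only [Pi.add_apply, mul_add]
  map_smul' a x := by funext i; simp only [Pi.smul_apply, smul_eq_mul, RingHom.id_apply]; ring
  invFun x := fun i => ((t i : ℤ) : F) * x i
  left_inv x := by
    funext i
    simp only
    rw [← mul_assoc, ← Int.cast_mul, ← Units.val_mul, Int.units_mul_self]; simp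
  right_inv x := by
    funext i
    simp only
    rw [← mul_assoc, ← Int.cast_mul, ← Units.val_mul, Int.units_mul_self]; simp

omit [NeZero n] in
theorem ds_apply (t : ZMod n → ℤˣ) (x : ZMod n → F) (i : ZMod n) : ds F t x i = ((t i : ℤ) : F) * x i := rfl

/-- shifts -/
def rot (F : Type*) [Field F] {n : ℕ} (k : ZMod n) : (ZMod n → F) ≃ₗ[F] (ZMod n → F) where
  toFun x := fun i => x (i + k)
  map_add' x y := rfl
  map_smul' a x := rfl
  invFun x := fun i => x (i - k)
  left_inv x := by funext i; simp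
  right_inv x := by funext i; simp

omit [NeZero n] in
theorem rot_apply (k : ZMod n) (x : ZMod n → F) (i : ZMod n) : rot F k x i = x (i + k) := rfl

omit [NeZero n] in
theorem ds_mul (t s : ZMod n → ℤˣ) : ds F (t * s) = ds F t * ds F s := by
  apply LinearEquiv.ext
  intro x
  funext i
  show ((((t * s) i : ℤˣ) : ℤ) : F) * x i = ((t i : ℤ) : F) * (((s i : ℤ) : F) * x i)
  rw [Pi.mul_apply, Units.val_mul, Int.cast_mul, mul_assoc]

omit [NeZero n] in
theorem ds_one : ds F (1 : ZMod n → ℤˣ) = 1 := by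
  apply LinearEquiv.ext
  intro x
  funext i
  rw [ds_apply]
  simp

/-- sign changes as a homomorphism -/
def dsHom (F : Type*) [Field F] (n : ℕ) : (ZMod n → ℤˣ) →* ((ZMod n → F) ≃ₗ[F] (ZMod n → F)) where
  toFun := ds F
  map_one' := ds_one
  map_mul' := ds_mul

omit [NeZero n] in
theorem rot_add (k l : ZMod n) : rot F (k + l) = rot F k * rot F l := by
  apply LinearEquiv.ext
  intro x
  funext i
  show x (i + (k + l)) = x (i + k + l)
  rw [add_assoc]

omit [NeZero n] in
theorem rot_zero : rot F (0 : ZMod n) = 1 := by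
  apply LinearEquiv.ext
  intro x
  funext i
  rw [rot_apply, add_zero]
  rfl

omit [NeZero n] in
theorem rot_pow (k : ℕ) : rot F (1 : ZMod n) ^ k = rot F (k : ZMod n) := by
  induction k with
  | zero => rw [pow_zero, Nat.cast_zero, rot_zero]
  | succ k ih => rw [pow_succ, ih, ← rot_add, Nat.cast_succ]

omit [NeZero n] in
theorem rot_ds (k : ZMod n) (t : ZMod n → ℤˣ) : rot F k * ds F t = ds F (fun i => t (i + k)) * rot F k := by
  apply LinearEquiv.ext
  intro x
  rfl

omit [NeZero n] in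
theorem ds_inj (h2 : (2 : F) ≠ 0) {s t : ZMod n → ℤˣ} (h : ds F s = ds F t) : s = t := by
  funext i
  have h1 : ((s i : ℤ) : F) * 1 = ((t i : ℤ) : F) * 1 :=
    congrArg (fun g : (ZMod n → F) ≃ₗ[F] (ZMod n → F) => g (fun _ => 1) i) h
  have hne : (-1 : F) ≠ 1 := QMain.neg_one_ne h2
  rcases Int.units_eq_one_or (s i) with hs | hs <;> rcases Int.units_eq_one_or (t i) with ht | ht
  · rw [hs, ht]
  · exfalso
    rw [hs, ht] at h1
    apply hne
    simpa using h1.symm
  · exfalso
    rw [hs, ht] at h1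
    apply hne
    simpa using h1
  · rw [hs, ht]

theorem ds_mem_O (c : F) (t : ZMod n → ℤˣ) : ds F t ∈ O (D F n c) := by
  intro x
  rw [D_apply, D_apply]
  congr 1
  refine Finset.sum_congr rfl fun i _ => ?_
  rw [ds_apply]
  have h1 : ((t i : ℤ) : F) * ((t i : ℤ) : F) = 1 := by
    rw [← Int.cast_mul, ← Units.val_mul, Int.units_mul_self]; simp
  linear_combination (x i * x i) * h1

theorem rot_mem_O (c : F) (k : ZMod n) : rot F k ∈ O (D F n c) := by
  intro x
  rw [D_apply, D_apply]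
  congr 1
  exact Equiv.sum_comp (Equiv.addRight k) (fun i => x i * x i)

theorem orderOf_rot : orderOf (rot F (1 : ZMod n)) = n := by
  rw [orderOf_eq_iff (Nat.pos_of_ne_zero (NeZero.ne n))]
  constructor
  · rw [rot_pow, ZMod.natCast_self, rot_zero]
  · intro m hm hm0 h
    rw [rot_pow] at h
    have h1 : (rot F (m : ZMod n)) (Pi.single (m : ZMod n) 1) 0 = (Pi.single (m : ZMod n) 1 : ZMod n → F) 0 :=
      congrArg (fun g : (ZMod n → F) ≃ₗ[F] (ZMod n → F) => g (Pi.single (m : ZMod n) 1) 0) h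
    rw [rot_apply, zero_add, Pi.single_eq_same, Pi.single_apply] at h1
    split_ifs at h1 with h3
    · have h4 := (ZMod.natCast_eq_zero_iff m n).1 h3.symm
      exact absurd (Nat.le_of_dvd hm0 h4) (by omega)
    · exact one_ne_zero h1

theorem dc_D [Fintype F] [DecidableEq F] (c : F) : dc (D F n c) = quadraticChar F (2 * c) ^ n := by
  rw [dc_eq (Pi.basisFun F (ZMod n)), ← map_pow]
  congr 1
  have h : LinearMap.BilinForm.toMatrix (Pi.basisFun F (ZMod n)) (polarBilin (D F n c)) =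
      Matrix.diagonal (fun _ => 2 * c) := by
    ext i j
    rw [LinearMap.BilinForm.toMatrix_apply, Pi.basisFun_apply, Pi.basisFun_apply, Matrix.diagonal_apply]
    show polar (D F n c) (Pi.single i 1) (Pi.single j 1) = _
    rw [polar_D]
    simp [Pi.single_apply]
    split_ifs with h1 h3 h3
    · rfl
    · exact absurd h1.symm h3
    · exact absurd h3.symm h1
    · rfl
  rw [h, Matrix.det_diagonal, Finset.prod_const, Finset.card_univ, ZMod.card]

/-- **Frames.** -/
theorem exists_frame [Fintype F] [DecidableEq F] (h2 : (2 : F) ≠ 0) (hn : Odd n) {V : Type*} [AddCommGroup V]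
    [Module F V] [FiniteDimensional F V] [Finite V] {Q : QuadraticForm F V} (hQ : Nondeg Q) (hV : finrank F V = n) :
    ∃ (c : F) (e : (ZMod n → F) ≃ₗ[F] V), c ≠ 0 ∧ IsIso (D F n c) Q e := by
  obtain ⟨a, ha0, ha⟩ := exists_qc (F := F) h2 (d := dc Q) (dc_cases hQ)
  have hc : (2 : F)⁻¹ * a ≠ 0 := mul_ne_zero (inv_ne_zero h2) ha0
  obtain ⟨e, he⟩ := exists_iso h2 (nondeg_D (n := n) h2 hc) hQ (by simp [hV]) (by
    rw [dc_D, mul_inv_cancel_left₀ h2, ha]
    rcases dc_cases hQ with h | h <;> rw [h]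
    · rw [one_pow]
    · rw [hn.neg_one_pow])
  exact ⟨_, e, hc, he⟩

end

section Frob

variable {F : Type*} [Field F] [Fintype F] {n m : ℕ} [NeZero n]

/-- the rotation in `Ω` -/
noncomputable def ro (hn : Odd n) (h2 : (2 : F) ≠ 0) {c : F} (hc : c ≠ 0) : Om (D F n c) :=
  ⟨rot F 1, El.of_odd (nondeg_D h2 hc) (rot_mem_O c 1) (by rw [orderOf_rot]; exact hn)⟩

/-- the commutators `[ds t, rot m]` -/
noncomputable def psi (n m : ℕ) [NeZero n] (c : F) : (ZMod n → ℤˣ) →* Om (D F n c) where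
  toFun t := ⟨ds F t * rot F (m : ZMod n) * (ds F t)⁻¹ * (rot F (m : ZMod n))⁻¹,
    comm_mem_Om (ds_mem_O c t) (rot_mem_O c _)⟩
  map_one' := Subtype.ext (by
    show ds F 1 * _ * (ds F 1)⁻¹ * _ = 1
    rw [ds_one, one_mul, inv_one, mul_one, mul_inv_cancel])
  map_mul' s t := Subtype.ext (by
    show ds F (s * t) * rot F (m : ZMod n) * (ds F (s * t))⁻¹ * (rot F (m : ZMod n))⁻¹ =
      (ds F s * rot F (m : ZMod n) * (ds F s)⁻¹ * (rot F (m : ZMod n))⁻¹) *
      (ds F t * rot F (m : ZMod n) * (ds F t)⁻¹ * (rot F (m : ZMod n))⁻¹)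
    have key : ∀ s : ZMod n → ℤˣ, ds F s * rot F (m : ZMod n) * (ds F s)⁻¹ * (rot F (m : ZMod n))⁻¹ =
        dsHom F n (s * (fun i : ZMod n => s (i + (m : ZMod n)))⁻¹) := by
      intro s
      rw [map_mul, map_inv]
      show ds F s * rot F (m : ZMod n) * (ds F s)⁻¹ * (rot F (m : ZMod n))⁻¹ =
        ds F s * (ds F (fun i : ZMod n => s (i + (m : ZMod n))))⁻¹
      have h1 := rot_ds (F := F) (m : ZMod n) s
      have h2 : (ds F fun i => s (i + (m : ZMod n))) = rot F (m : ZMod n) * ds F s * (rot F (m : ZMod n))⁻¹ := by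
        rw [h1, mul_inv_cancel_right]
      rw [h2]
      group
    rw [key, key, key, ← map_mul]
    congr 1
    funext i
    simp only [Pi.mul_apply, Pi.inv_apply, mul_inv]
    rw [mul_mul_mul_comm])

theorem psi_coe (c : F) (t : ZMod n → ℤˣ) :
    ((psi n m c t : Om (D F n c)) : (ZMod n → F) ≃ₗ[F] (ZMod n → F)) = ds F (t * (fun i : ZMod n => t (i + (m : ZMod n)))⁻¹) := by
  show ds F t * rot F (m : ZMod n) * (ds F t)⁻¹ * (rot F (m : ZMod n))⁻¹ = _
  have h1 := rot_ds (F := F) (m : ZMod n) t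
  have h2 : (ds F fun i => t (i + (m : ZMod n))) = rot F (m : ZMod n) * ds F t * (rot F (m : ZMod n))⁻¹ := by
    rw [h1, mul_inv_cancel_right]
  have h3 : ds F (t * (fun i : ZMod n => t (i + (m : ZMod n)))⁻¹) = ds F t * (ds F (fun i : ZMod n => t (i + (m : ZMod n))))⁻¹ := by
    have := map_mul (dsHom F n) t ((fun i : ZMod n => t (i + (m : ZMod n)))⁻¹)
    rw [map_inv] at this
    exact this
  rw [h3, h2]
  group

theorem orderOf_ro (hn : Odd n) (h2 : (2 : F) ≠ 0) {c : F} (hc : c ≠ 0) : orderOf (ro hn h2 hc) = n := by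
  rw [← Subgroup.orderOf_coe]
  exact orderOf_rot

theorem ro_psi (hn : Odd n) (h2 : (2 : F) ≠ 0) {c : F} (hc : c ≠ 0) (t : ZMod n → ℤˣ) :
    ro hn h2 hc * psi n m c t = psi n m c (fun i => t (i + 1)) * ro hn h2 hc := by
  apply Subtype.ext
  rw [Subgroup.coe_mul, Subgroup.coe_mul, psi_coe, psi_coe]
  show rot F 1 * _ = _ * rot F 1
  rw [rot_ds]
  congr 2
  funext i
  simp only [Pi.mul_apply, Pi.inv_apply]
  rw [add_right_comm]

/-- the action is free -/
theorem ro_free (hn : Odd n) (h2 : (2 : F) ≠ 0) {c : F} (hc : c ≠ 0) (hnm : n = 3 * m) {k : ℕ}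
    (hj : ∃ j : ℕ, ((j * k : ℕ) : ZMod n) = (m : ZMod n)) (t : ZMod n → ℤˣ)
    (h : ro hn h2 hc ^ k * psi n m c t = psi n m c t * ro hn h2 hc ^ k) : psi n m c t = 1 := by
  set s : ZMod n → ℤˣ := t * (fun i => t (i + m))⁻¹ with hs
  have h1 : rot F (k : ZMod n) * ds F s = ds F s * rot F (k : ZMod n) := by
    have h3 := congrArg Subtype.val h
    rw [Subgroup.coe_mul, Subgroup.coe_mul, psi_coe, ← hs, SubgroupClass.coe_pow] at h3
    have h4 : ((ro hn h2 hc : Om (D F n c)) : (ZMod n → F) ≃ₗ[F] (ZMod n → F)) = rot F 1 := rfl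
    rw [h4, rot_pow] at h3
    exact h3
  rw [rot_ds] at h1
  have h3 := mul_right_cancel h1
  have h4 := ds_inj h2 h3
  have h5 : ∀ i, s (i + k) = s i := fun i => congrFun h4 i
  have h6 : ∀ (j : ℕ) i, s (i + (j * k : ℕ)) = s i := by
    intro j
    induction j with
    | zero => intro i; simp
    | succ j ih =>
      intro i
      have : ((((j + 1) * k : ℕ)) : ZMod n) = ((j * k : ℕ) : ZMod n) + k := by push_cast; ring
      rw [this, ← add_assoc, h5, ih]
  obtain ⟨j, hj⟩ := hj
  have h7 : ∀ i, s (i + m) = s i := fun i => by rw [← hj]; exact h6 j i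
  have h3m : (m : ZMod n) + m + m = 0 := by
    have : ((3 * m : ℕ) : ZMod n) = 0 := by rw [← hnm]; exact ZMod.natCast_self n
    push_cast at this
    linear_combination this
  have h8 : ∀ i, s i * s (i + m) * s (i + m + m) = 1 := by
    intro i
    simp only [hs, Pi.mul_apply, Pi.inv_apply]
    have : i + (m : ZMod n) + m + m = i := by rw [add_assoc, add_assoc, ← add_assoc (m : ZMod n), h3m, add_zero]
    rw [this]
    have e1 : ∀ a b c : ℤˣ, a * b⁻¹ * (b * c⁻¹) * (c * a⁻¹) = 1 := by intro a b c; group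
    exact e1 _ _ _
  have h9 : s = 1 := by
    funext i
    have h10 := h8 i
    rw [h7, h7, Int.units_mul_self, one_mul, h7] at h10
    exact h10
  apply Subtype.ext
  rw [psi_coe, ← hs, h9, ds_one]
  rfl

theorem three_free : ∀ k : ℕ, 0 < k → k < 3 → ∃ j : ℕ, ((j * k : ℕ) : ZMod 3) = ((1 : ℕ) : ZMod 3) := by
  intro k hk hk3
  interval_cases k
  · exact ⟨1, by decide⟩
  · exact ⟨2, by decide⟩

theorem nine_free : ∀ k : ℕ, 0 < k → k < 9 → ∃ j : ℕ, ((j * k : ℕ) : ZMod 9) = ((3 : ℕ) : ZMod 9) := by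
  intro k hk hk3
  interval_cases k
  · exact ⟨3, by decide⟩
  · exact ⟨6, by decide⟩
  · exact ⟨1, by decide⟩
  · exact ⟨3, by decide⟩
  · exact ⟨6, by decide⟩
  · exact ⟨2, by decide⟩
  · exact ⟨3, by decide⟩
  · exact ⟨6, by decide⟩

end Frob

end Cfsg.Agent.H229.T
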