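import Mathlib
import Cfsg.Agent.H229.T.Frame
import Cfsg.Agent.H371.FrobCover

/-!
# An element of order three of `Ω₃(q)`, `q` prime to 6, has fixed points on abelian groups (helper229)
-/

set_option autoImplicit false
set_option linter.unusedSectionVars false

namespace Cfsg.Agent.H229.T

open QuadraticMap Module
open Cfsg.Agent.LieClassical.OrthCore Cfsg.Agent.LieClassical.OrthForms Cfsg.Agent.LieClassical.OrthFinite
open Cfsg.Agent.H160 Cfsg.Agent.H160.QSpin Cfsg.Agent.H160.QDisc Cfsg.Agent.H160.QFinal Cfsg.Agent.H160.QModel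
open Cfsg.Agent.H160.QReal

section

variable {F : Type*} [Field F] [Fintype F]

/-- `-refl_v` -/
noncomputable def zv {c : F} (v : ZMod 3 → F) (hv : D F 3 c v ≠ 0) : (ZMod 3 → F) ≃ₗ[F] (ZMod 3 → F) :=
  LinearEquiv.neg F * refl (D F 3 c) v hv

theorem zv_apply {c : F} {v : ZMod 3 → F} (hv : D F 3 c v ≠ 0) (x : ZMod 3 → F) :
    zv v hv x = -(x - ((D F 3 c v)⁻¹ * polar (D F 3 c) v x) • v) := by
  show -(refl (D F 3 c) v hv x) = _
  rw [refl_apply]

theorem zv_neg {c : F} {v : ZMod 3 → F} (hv : D F 3 c v ≠ 0) (hv' : D F 3 c (-v) ≠ 0) : zv (-v) hv' = zv v hv := by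
  apply LinearEquiv.ext
  intro x
  rw [zv_apply, zv_apply, QuadraticMap.map_neg, QuadraticMap.polar_neg_left]
  congr 2
  rw [smul_neg, ← neg_smul, mul_neg, neg_neg]

theorem zv_conj {c : F} {g : (ZMod 3 → F) ≃ₗ[F] (ZMod 3 → F)} (hg : g ∈ O (D F 3 c)) {v : ZMod 3 → F}
    (hv : D F 3 c v ≠ 0) (hv' : D F 3 c (g v) ≠ 0) : g * zv v hv * g⁻¹ = zv (g v) hv' := by
  apply LinearEquiv.ext
  intro x
  show g (zv v hv (g⁻¹ x)) = _
  rw [zv_apply, zv_apply, map_neg, map_sub, map_smul, mem_O.1 hg]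
  have h1 : g (g⁻¹ x) = x := g.apply_symm_apply x
  rw [h1]
  have h2 := polar_map hg v (g⁻¹ x)
  rw [h1] at h2
  rw [h2]

/-- the isometries act transitively on the vectors of given norm, up to sign -/
theorem exists_map (h2 : (2 : F) ≠ 0) {c : F} (hc : c ≠ 0) {x y : ZMod 3 → F} (hx : D F 3 c x = c)
    (hy : D F 3 c y = c) : ∃ g ∈ O (D F 3 c), g x = y ∨ g x = -y := by
  by_cases h : D F 3 c (x - y) ≠ 0
  · exact ⟨_, refl_mem_O h, Or.inl (refl_sub_apply (hy.trans hx.symm) h)⟩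
  · push Not at h
    have h3 : D F 3 c (x - -y) ≠ 0 := by
      have e1 := Q_add (Q := D F 3 c) x (-y)
      have e2 := Q_add (Q := D F 3 c) x y
      rw [← sub_eq_add_neg, h, QuadraticMap.map_neg, hx, hy, QuadraticMap.polar_neg_right] at e1
      rw [hx, hy] at e2
      rw [sub_neg_eq_add, e2]
      intro h4
      have h5 : 2 * (2 * c) = 0 := by linear_combination h4 - e1
      exact (mul_ne_zero h2 (mul_ne_zero h2 hc)) h5
    exact ⟨_, refl_mem_O h3, Or.inr (refl_sub_apply (by rw [QuadraticMap.map_neg, hx, hy]) h3)⟩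

theorem sum_three (f : ZMod 3 → F) : ∑ i, f i = f 0 + f 1 + f 2 := Fin.sum_univ_three f

/-- the rotation is a product of two elements `zv` -/
theorem rot_eq (h2 : (2 : F) ≠ 0) {c : F} (hc : c ≠ 0) {v : ZMod 3 → F} (h0 : v 0 + v 1 + v 2 = 0)
    (h1 : v 0 * v 0 + v 1 * v 1 + v 2 * v 2 = 1) (hv : D F 3 c v ≠ 0) (hv' : D F 3 c (rot F 1 v) ≠ 0) :
    zv v hv * zv (rot F 1 v) hv' = rot F 1 := by
  have hD : D F 3 c v = c := by rw [D_apply, sum_three, h1, mul_one]
  have hD' : D F 3 c (rot F 1 v) = c := by rw [mem_O.1 (rot_mem_O c 1), hD]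
  have r0 : rot F (1 : ZMod 3) v 0 = v 1 := rfl
  have r1 : rot F (1 : ZMod 3) v 1 = v 2 := rfl
  have r2 : rot F (1 : ZMod 3) v 2 = v 0 := rfl
  have hcc : c⁻¹ * c = 1 := inv_mul_cancel₀ hc
  apply LinearEquiv.ext
  intro x
  have hz : ∀ (w : ZMod 3 → F) (hw : D F 3 c w ≠ 0) (hwc : D F 3 c w = c) (x : ZMod 3 → F) (i : ZMod 3),
      zv w hw x i = -x i + 2 * (w 0 * x 0 + w 1 * x 1 + w 2 * x 2) * w i := by
    intro w hw hwc x i
    rw [zv_apply, hwc, polar_D, sum_three]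
    simp only [Pi.neg_apply, Pi.sub_apply, Pi.smul_apply, smul_eq_mul]
    linear_combination (2 * (w 0 * x 0 + w 1 * x 1 + w 2 * x 2) * w i) * hcc
  have h3 : v 2 = -v 0 - v 1 := by linear_combination h0
  have h4 : v 0 * v 0 + v 0 * v 1 + v 1 * v 1 = 2⁻¹ := by
    have h5 : (2 : F) * 2⁻¹ = 1 := mul_inv_cancel₀ h2
    apply mul_left_cancel₀ h2
    rw [h3] at h1
    linear_combination h1 - h5
  have h6 : 2 * (v 0 * v 0 + v 0 * v 1 + v 1 * v 1) = 1 := by rw [h4, mul_inv_cancel₀ h2]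
  funext i
  show zv v hv (zv (rot F 1 v) hv' x) i = x (i + 1)
  rw [hz v hv hD, hz _ hv' hD', hz _ hv' hD', hz _ hv' hD', hz _ hv' hD', r0, r1, r2, h3]
  obtain rfl | rfl | rfl : i = 0 ∨ i = 1 ∨ i = 2 := by
    revert i; decide
  · show _ = x 1
    rw [r0]
    linear_combination (x 1 - x 0 - 2 * (v 1 * x 0 + (-v 0 - v 1) * x 1 + v 0 * x 2) * v 0) * h6
  · show _ = x 2
    rw [r1, h3]
    linear_combination (x 2 - x 1 - 2 * (v 1 * x 0 + (-v 0 - v 1) * x 1 + v 0 * x 2) * v 1) * h6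
  · show _ = x 0
    rw [r2, h3]
    linear_combination (x 0 - x 2 - 2 * (v 1 * x 0 + (-v 0 - v 1) * x 1 + v 0 * x 2) * (-v 0 - v 1)) * h6

/-- conjugation by an isometry -/
def kap {c : F} {n : ℕ} [NeZero n] {g : (ZMod n → F) ≃ₗ[F] (ZMod n → F)} (hg : g ∈ O (D F n c)) :
    Om (D F n c) →* Om (D F n c) where
  toFun h := ⟨g * h.1 * g⁻¹, conj_mem_Om hg h.2⟩
  map_one' := Subtype.ext (by show g * 1 * g⁻¹ = 1; group)
  map_mul' a b := Subtype.ext (by
    show g * (a.1 * b.1) * g⁻¹ = (g * a.1 * g⁻¹) * (g * b.1 * g⁻¹)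
    group)

theorem kap_injective {c : F} {n : ℕ} [NeZero n] {g : (ZMod n → F) ≃ₗ[F] (ZMod n → F)} (hg : g ∈ O (D F n c)) :
    Function.Injective (kap hg) := by
  intro a b h
  have h1 : g * a.1 * g⁻¹ = g * b.1 * g⁻¹ := congrArg Subtype.val h
  exact Subtype.ext (mul_left_cancel (mul_right_cancel h1))

theorem ro_inv_psi {n m : ℕ} [NeZero n] (hn : Odd n) (h2 : (2 : F) ≠ 0) {c : F} (hc : c ≠ 0) (i : ℕ)
    (t : ZMod n → ℤˣ) : ∃ s, (ro hn h2 hc ^ i)⁻¹ * psi n m c t * ro hn h2 hc ^ i = psi n m c s := by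
  induction i generalizing t with
  | zero => exact ⟨t, by simp⟩
  | succ i ih =>
    obtain ⟨s, hs⟩ := ih t
    refine ⟨fun j => s (j - 1), ?_⟩
    have h1 := ro_psi (m := m) hn h2 hc (fun j => s (j - 1))
    simp only [add_sub_cancel_right] at h1
    have h3 : (ro hn h2 hc)⁻¹ * psi n m c s * ro hn h2 hc = psi n m c (fun j => s (j - 1)) := by
      rw [mul_assoc, ← h1, inv_mul_cancel_left]
    rw [← h3, ← hs, pow_succ]
    group

theorem card_psi_range {n m : ℕ} [NeZero n] (c : F) : Nat.card (psi (F := F) n m c).range ∣ 2 ^ n := by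
  have h1 := Subgroup.card_range_dvd (psi (F := F) n m c)
  have h3 : Nat.card (ZMod n → ℤˣ) = 2 ^ n := by
    rw [Nat.card_fun, Nat.card_zmod]
    simp
  rwa [h3] at h1

/-- **Fixed points of an element of order three.** -/
theorem exists_fixed (h2 : (2 : F) ≠ 0) (h3 : (3 : F) ≠ 0) {c : F} (hc : c ≠ 0) {W : Type*} [CommGroup W]
    (θ : Om (D F 3 c) →* MulAut W) {e : ℕ} (he : ∀ v : W, v ^ e = 1) (hcop : Nat.Coprime 2 e)
    (hW : ∃ w : W, w ≠ 1) : ∃ b : Om (D F 3 c), orderOf b = 3 ∧ ∃ w : W, w ≠ 1 ∧ θ b w = w := by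
  classical
  by_contra hcon
  push Not at hcon
  have hodd : Odd 3 := by decide
  have key : ∀ (g : (ZMod 3 → F) ≃ₗ[F] (ZMod 3 → F)) (hg : g ∈ O (D F 3 c)) (t : ZMod 3 → ℤˣ),
      θ (kap hg (psi 3 1 c t)) = 1 := by
    intro g hg t
    let U := (psi (F := F) 3 1 c).range.map (kap hg)
    have hfin : Finite U := by
      have : Finite (psi (F := F) 3 1 c).range := inferInstance
      exact Finite.of_surjective _ ((kap hg).subgroupMap_surjective (psi (F := F) 3 1 c).range)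
    have hord : orderOf (kap hg (ro hodd h2 hc)) = 3 := by
      rw [orderOf_injective _ (kap_injective hg), orderOf_ro]
    have h4 := H371.Frob.trivial_of_norm θ U (c := kap hg (ro hodd h2 hc)) (m := 3) (e := e) (by norm_num)
      (by
        rintro _ ⟨_, ⟨t, rfl⟩, rfl⟩ i
        obtain ⟨s, hs⟩ := ro_inv_psi (m := 1) hodd h2 hc i t
        refine ⟨psi 3 1 c s, ⟨s, rfl⟩, ?_⟩
        rw [← hs, map_mul, map_mul, map_inv, map_pow])
      (by
        rintro i hi0 hi _ ⟨_, ⟨t, rfl⟩, rfl⟩ hcomm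
        rw [← map_pow, ← map_mul, ← map_mul] at hcomm
        rw [ro_free (n := 3) (m := 1) hodd h2 hc rfl (three_free i hi0 hi) t (kap_injective hg hcomm), map_one])
      he
      (by
        have h5 : Nat.card U ∣ 2 ^ 3 :=
          (Subgroup.card_map_dvd (psi (F := F) 3 1 c).range (kap hg)).trans (card_psi_range c)
        exact Nat.Coprime.coprime_dvd_left h5 (Nat.Coprime.pow_left 3 hcop))
      (by
        intro v
        by_contra hne
        apply hcon _ hord _ hne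
        have h6 : ∀ i, θ (kap hg (ro hodd h2 hc)) (θ (kap hg (ro hodd h2 hc) ^ i) v) =
            θ (kap hg (ro hodd h2 hc) ^ (i + 1)) v := by
          intro i
          rw [← MulAut.mul_apply, ← map_mul, ← pow_succ']
        have h7 : kap hg (ro hodd h2 hc) ^ (2 + 1) = kap hg (ro hodd h2 hc) ^ 0 := by
          have := pow_orderOf_eq_one (kap hg (ro hodd h2 hc))
          rw [hord] at this
          rw [pow_zero]
          exact this
        rw [map_prod, Finset.prod_congr rfl (fun i _ => h6 i), Finset.prod_range_succ, h7,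
          Finset.prod_range_succ' _ 2])
      (kap hg (psi 3 1 c t)) ⟨_, ⟨t, rfl⟩, rfl⟩
    exact MulEquiv.ext h4
  -- the involutions
  let e0 : ZMod 3 → F := Pi.single 0 1
  have e00 : e0 0 = 1 := Pi.single_eq_same _ _
  have e01 : e0 1 = 0 := Pi.single_eq_of_ne (by decide) _
  have e02 : e0 2 = 0 := Pi.single_eq_of_ne (by decide) _
  have hDe0 : D F 3 c e0 = c := by
    rw [D_apply, sum_three, e00, e01, e02]
    ring
  have he0 : D F 3 c e0 ≠ 0 := by rw [hDe0]; exact hc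
  let t0 : ZMod 3 → ℤˣ := fun i => if i = 2 then -1 else 1
  have hz : ((psi 3 1 c t0 : Om (D F 3 c)) : (ZMod 3 → F) ≃ₗ[F] (ZMod 3 → F)) = zv e0 he0 := by
    rw [psi_coe]
    apply LinearEquiv.ext
    intro x
    funext i
    rw [ds_apply, zv_apply, hDe0, polar_D, sum_three]
    have hcc : c⁻¹ * c = 1 := inv_mul_cancel₀ hc
    simp only [Pi.neg_apply, Pi.sub_apply, Pi.smul_apply, smul_eq_mul, e00, e01, e02]
    obtain rfl | rfl | rfl : i = 0 ∨ i = 1 ∨ i = 2 := by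
      revert i; decide
    · have : (t0 * (fun i : ZMod 3 => t0 (i + ((1 : ℕ) : ZMod 3)))⁻¹) 0 = 1 := by decide
      rw [this, e00, Units.val_one, Int.cast_one]
      linear_combination (-2 * x 0) * hcc
    · have : (t0 * (fun i : ZMod 3 => t0 (i + ((1 : ℕ) : ZMod 3)))⁻¹) 1 = -1 := by decide
      rw [this, e01]
      simp
    · have : (t0 * (fun i : ZMod 3 => t0 (i + ((1 : ℕ) : ZMod 3)))⁻¹) 2 = -1 := by decide
      rw [this, e02]
      simp
  have hzv : ∀ (v : ZMod 3 → F) (hv : D F 3 c v ≠ 0), D F 3 c v = c →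
      ∃ h : zv v hv ∈ Om (D F 3 c), θ ⟨zv v hv, h⟩ = 1 := by
    intro v hv hvc
    obtain ⟨g, hg, h5⟩ := exists_map h2 hc hDe0 hvc
    have hge : D F 3 c (g e0) ≠ 0 := by rw [mem_O.1 hg]; exact he0
    have h6 : zv v hv = zv (g e0) hge := by
      rcases h5 with h5 | h5
      · subst h5; rfl
      · have h7 : D F 3 c (-v) ≠ 0 := by rw [QuadraticMap.map_neg]; exact hv
        rw [← zv_neg hv h7]
        congr 1
        exact h5.symm
    have h7 : zv v hv = ((kap hg (psi 3 1 c t0) : Om (D F 3 c)) : (ZMod 3 → F) ≃ₗ[F] (ZMod 3 → F)) := by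
      rw [h6]
      show _ = g * ((psi 3 1 c t0 : Om (D F 3 c)) : (ZMod 3 → F) ≃ₗ[F] (ZMod 3 → F)) * g⁻¹
      rw [hz, zv_conj hg he0 hge]
    refine ⟨by rw [h7]; exact (kap hg (psi 3 1 c t0)).2, ?_⟩
    rw [← key g hg t0]
    congr 1
    exact Subtype.ext h7
  -- a vector
  obtain ⟨X, Y, hXY⟩ : ∃ X Y : F, X ^ 2 - 2 + 3 * Y ^ 2 = 0 := by
    have hchar : ringChar F ≠ 2 := by
      intro h
      apply h2
      have := ringChar.spec F 2
      rw [h] at this
      exact_mod_cast this.2 dvd_rfl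
    have hcard : Fintype.card F % 2 = 1 := FiniteField.odd_card_of_char_ne_two hchar
    obtain ⟨X, Y, h⟩ := FiniteField.exists_root_sum_quadratic (f := (Polynomial.X ^ 2 - Polynomial.C 2 : Polynomial F))
      (g := (Polynomial.C 3 * Polynomial.X ^ 2 : Polynomial F))
      (Polynomial.degree_X_pow_sub_C (by norm_num) _) (by
        rw [Polynomial.degree_C_mul h3, Polynomial.degree_X_pow]; rfl) hcard
    refine ⟨X, Y, ?_⟩
    simpa using h
  have h22 : (2 : F) * 2⁻¹ = 1 := mul_inv_cancel₀ h2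
  let v : ZMod 3 → F := ![2⁻¹ * (X - Y), Y, -(2⁻¹ * (X - Y)) - Y]
  have v0 : v 0 = 2⁻¹ * (X - Y) := rfl
  have v1 : v 1 = Y := rfl
  have v2 : v 2 = -(2⁻¹ * (X - Y)) - Y := rfl
  have hs0 : v 0 + v 1 + v 2 = 0 := by rw [v0, v1, v2]; ring
  have hs1 : v 0 * v 0 + v 1 * v 1 + v 2 * v 2 = 1 := by
    rw [v0, v1, v2]
    have h4 : (4 : F) ≠ 0 := by
      have : (4 : F) = 2 * 2 := by norm_num
      rw [this]; exact mul_ne_zero h2 h2
    field_simp
    linear_combination 2 * hXY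
  have hvc : D F 3 c v = c := by rw [D_apply, sum_three, hs1, mul_one]
  have hv : D F 3 c v ≠ 0 := by rw [hvc]; exact hc
  have hv' : D F 3 c (rot F 1 v) ≠ 0 := by rw [mem_O.1 (rot_mem_O c 1)]; exact hv
  obtain ⟨m1, e1⟩ := hzv v hv hvc
  obtain ⟨m2, e2⟩ := hzv (rot F 1 v) hv' (by rw [mem_O.1 (rot_mem_O c 1)]; exact hvc)
  have hro : ro hodd h2 hc = (⟨zv v hv, m1⟩ : Om (D F 3 c)) * ⟨zv (rot F 1 v) hv', m2⟩ :=
    Subtype.ext (rot_eq h2 hc hs0 hs1 hv hv').symm
  obtain ⟨w, hw⟩ := hW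
  apply hcon (ro hodd h2 hc) (orderOf_ro hodd h2 hc) w hw
  rw [hro, map_mul, e1, e2, mul_one]
  rfl

end

end Cfsg.Agent.H229.T
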