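import Mathlib
import Cfsg.Agent.H229.T.Frame

/-!
# The centralizer in `Ω₉(q)` of an element of prime order `r`, `e(r, q) ∈ {3, 6}`, contains `Ω₃(q)` (helper229)
-/

set_option autoImplicit false
set_option linter.unusedSectionVars false

namespace Cfsg.Agent.H229.T

open QuadraticMap Module
open Cfsg.Agent.LieClassical.OrthCore Cfsg.Agent.LieClassical.OrthForms Cfsg.Agent.LieClassical.OrthFinite
open Cfsg.Agent.H160 Cfsg.Agent.H160.QSpin Cfsg.Agent.H160.QDisc Cfsg.Agent.H160.QFinal Cfsg.Agent.H160.QModel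
open Cfsg.Agent.H160.QReal Cfsg.Agent.H160.QSplit Cfsg.Agent.H160.QChar Cfsg.Agent.H160.QRoots

section Roots

variable {F V : Type*} [Field F] [AddCommGroup V] [Module F V] [FiniteDimensional F V]

/-- the eigenvalues of an endomorphism of finite order -/
theorem rts_pow {g : V →ₗ[F] V} {n : ℕ} (h : g ^ n = 1) {x : AlgebraicClosure F} (hx : x ∈ rts g) : x ^ n = 1 := by
  let φ := algebraMap F (AlgebraicClosure F)
  let b := finBasis F V
  set M := LinearMap.toMatrix b b g with hM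
  have h1 : (M.map φ).charpoly = g.charpoly.map φ := by
    rw [Matrix.charpoly_map, hM, LinearMap.charpoly_toMatrix]
  have h2 : (M.map φ).charpoly.IsRoot x := by
    rw [h1]
    exact (Polynomial.mem_roots (map_ne g)).1 hx
  have hne : Nonempty (Fin (finrank F V)) := by
    by_contra hcon
    rw [not_nonempty_iff] at hcon
    rw [Matrix.charpoly, Matrix.det_isEmpty] at h2
    simp at h2
  have h3 := Matrix.mem_spectrum_of_isRoot_charpoly h2
  have h4 := spectrum.pow_mem_pow (M.map φ) n h3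
  have h5 : (M.map φ) ^ n = 1 := by
    have e1 : M ^ n = 1 := by
      have e0 : M = LinearMap.toMatrixAlgEquiv b g := rfl
      rw [e0, ← map_pow, h, map_one]
    have e2 := congrArg (fun A : Matrix _ _ F => φ.mapMatrix A) e1
    simp only [map_pow, map_one] at e2
    exact e2
  rw [h5] at h4
  have : Nontrivial (Matrix (Fin (finrank F V)) (Fin (finrank F V)) (AlgebraicClosure F)) := inferInstance
  rw [spectrum.one_eq] at h4
  exact h4

end Roots

section Cent

variable {F : Type*} [Field F] [Fintype F] [DecidableEq F]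

theorem not_dvd_card_of {r k : ℕ} {q : ℕ} (hk : k ≠ 0) (hq : 0 < q) (hr : r.Prime) (h : r ∣ q ^ k - 1) : ¬ r ∣ q := by
  intro h1
  have h2 : r ∣ q ^ k := dvd_pow h1 hk
  have h3 : 1 ≤ q ^ k := Nat.one_le_pow _ _ hq
  have h4 := Nat.dvd_sub h2 h
  rw [Nat.sub_sub_self h3] at h4
  exact hr.one_lt.ne' (Nat.dvd_one.1 h4)

/-- divisibility of `d` by three -/
theorem three_dvd {q r d : ℕ} (hq : 0 < q) (hr : r.Prime) (h6 : r ∣ q ^ 6 - 1) (h2 : ¬ r ∣ q ^ 2 - 1)
    (h : r ∣ q ^ d - 1 ∨ r ∣ q ^ d + 1) : 3 ∣ d := by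
  have h2d : r ∣ q ^ (2 * d) - 1 := by
    have e : q ^ (2 * d) - 1 = (q ^ d + 1) * (q ^ d - 1) := by
      rw [mul_comm 2 d, pow_mul]
      simpa using Nat.sq_sub_sq (q ^ d) 1
    rw [e]
    rcases h with h | h
    · exact h.mul_left _
    · exact h.mul_right _
  have h3 : r ∣ q ^ Nat.gcd 6 (2 * d) - 1 := by
    have := Nat.dvd_gcd h6 h2d
    rwa [Nat.pow_sub_one_gcd_pow_sub_one] at this
  have h4 : Nat.gcd 6 (2 * d) ∣ 6 := Nat.gcd_dvd_left _ _
  have h5 : 2 ∣ Nat.gcd 6 (2 * d) := Nat.dvd_gcd (by norm_num) (Nat.dvd_mul_right _ _)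
  by_contra h7
  apply h2
  have h8 : Nat.gcd 6 (2 * d) = 2 := by
    have h9 : ¬ 3 ∣ Nat.gcd 6 (2 * d) := fun h10 => h7 (by
      have h11 := h10.trans (Nat.gcd_dvd_right 6 (2 * d))
      exact (Nat.Coprime.dvd_mul_left (by norm_num : Nat.Coprime 3 2)).1 h11)
    have h10 : Nat.gcd 6 (2 * d) ≤ 6 := Nat.le_of_dvd (by norm_num) h4
    interval_cases Nat.gcd 6 (2 * d) <;> omega
  rwa [h8] at h3

/-- **`Ω₃(q)` in the centralizer.** -/
theorem exists_three (h2 : (2 : F) ≠ 0) {V : Type*} [AddCommGroup V] [Module F V] [FiniteDimensional F V] [Finite V]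
    {Q : QuadraticForm F V} (hQ : Nondeg Q) (hV : finrank F V = 9) {r : ℕ} (hr : r.Prime)
    (h6 : r ∣ Fintype.card F ^ 6 - 1) (hn2 : ¬ r ∣ Fintype.card F ^ 2 - 1) {a : V ≃ₗ[F] V} (ha : a ∈ O Q)
    (hao : orderOf a = r) :
    ∃ (c : F) (_ : c ≠ 0) (f : Om (D F 3 c) →* Om Q), Function.Injective f ∧
      ∀ h, a * ((f h : Om Q) : V ≃ₗ[F] V) = ((f h : Om Q) : V ≃ₗ[F] V) * a := by
  classical
  obtain ⟨p, hpF⟩ := CharP.exists F
  have hp : Fact p.Prime := ⟨CharP.char_is_prime F p⟩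
  have hq0 : 0 < Fintype.card F := Fintype.card_pos
  obtain ⟨n₁, n₂, Q₁, Q₂, g₁, g₂, e, he, hge, hno, hnil⟩ := split ha
  obtain ⟨hQ₁, hQ₂⟩ := nondeg_of_prod (he.symm.nondeg hQ)
  have hprO : pr g₁ g₂ ∈ O (Q₁.prod Q₂) := by
    have := cj_mem_O he.symm ha
    rwa [hge, QUpper.cj_symm_cj] at this
  obtain ⟨hg₁, hg₂⟩ := pr_mem_O_iff.1 hprO
  have hdim : n₁ + n₂ = 9 := by
    have := e.finrank_eq
    rw [hV] at this
    rw [← this]
    simp
  have hrq : ¬ r ∣ Fintype.card F := not_dvd_card_of (k := 6) (by norm_num) hq0 hr h6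
  have hrp : r ≠ p := by
    rintro rfl
    exact hrq (QMain.p_dvd_card (F := F) (p := r))
  have hr2 : r ≠ 2 := by
    rintro rfl
    obtain ⟨e', he'⟩ := QUpper.card_odd_eq (F := F) h2
    apply hn2
    have : Fintype.card F ^ 2 - 1 = 2 * (2 * e' ^ 2 + 2 * e') := by
      have h3 : Fintype.card F ^ 2 = 2 * (2 * e' ^ 2 + 2 * e') + 1 := by rw [he']; ring
      omega
    rw [this]
    exact Nat.dvd_mul_right _ _
  have hpr : pr g₁ g₂ ^ r = 1 := by
    have h3 : cj e (pr g₁ g₂) ^ r = 1 := by rw [← hge, ← hao, pow_orderOf_eq_one]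
    rw [← orderOf_dvd_iff_pow_eq_one] at h3 ⊢
    rwa [orderOf_cj] at h3
  have hg₁r : g₁ ^ r = 1 := by
    have h3 := orderOf_dvd_of_pow_eq_one hpr
    rw [orderOf_pr] at h3
    exact orderOf_dvd_iff_pow_eq_one.1 ((Nat.dvd_lcm_left _ _).trans h3)
  have hg₂r : g₂ ^ r = 1 := by
    have h3 := orderOf_dvd_of_pow_eq_one hpr
    rw [orderOf_pr] at h3
    exact orderOf_dvd_iff_pow_eq_one.1 ((Nat.dvd_lcm_right _ _).trans h3)
  -- the unipotent part is trivial
  have hg₂1 : g₂ = 1 := by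
    obtain ⟨k, hk⟩ : ∃ k, n₂ ≤ p ^ k := ⟨n₂, (Nat.lt_pow_self hp.out.one_lt).le⟩
    have h3 := orderOf_dvd_of_pow_eq_one (QUpper.unip_pow (p := p) hnil hk)
    have h4 := Nat.dvd_gcd h3 (orderOf_dvd_of_pow_eq_one hg₂r)
    have h5 : Nat.Coprime (p ^ k) r := Nat.Coprime.pow_left k ((Nat.coprime_primes hp.out hr).2 hrp.symm)
    rw [h5] at h4
    exact orderOf_eq_one_iff.1 (Nat.dvd_one.1 h4)
  have hg₁1 : g₁ ≠ 1 := by
    intro h3
    have h4 : pr g₁ g₂ = 1 := by rw [h3, hg₂1]; rfl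
    have h5 : orderOf a = 1 := by rw [hge, orderOf_cj, h4, orderOf_one]
    rw [hao] at h5
    exact hr.one_lt.ne' h5
  -- the roots
  have hm1 : ∀ v, g₁ v = -v → v = 0 := by
    intro v hv
    apply hno
    have h3 : ∀ k : ℕ, (g₁ ^ (2 * k + 1)) v = -v := by
      intro k
      induction k with
      | zero => simpa using hv
      | succ k ih =>
        have e1 : g₁ ^ (2 * (k + 1) + 1) = g₁ * (g₁ * g₁ ^ (2 * k + 1)) := by
          rw [← mul_assoc, ← pow_two, ← pow_add]; congr 1; ring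
        rw [e1]
        show g₁ (g₁ ((g₁ ^ (2 * k + 1)) v)) = -v
        rw [ih, map_neg, hv, neg_neg, hv]
    obtain ⟨k, hk⟩ := hr.odd_of_ne_two hr2
    have h4 := h3 k
    rw [← hk, hg₁r] at h4
    have h5 : v = -v := h4
    rw [hv, ← h5]
  have hInv := inv_rts hQ₁ hg₁ hno hm1
  set R := rts (en g₁) with hR
  have hcard : R.card = n₁ := by
    rw [hR, card_rts]; simp
  have hxr : ∀ x ∈ R, x ^ r = 1 := by
    intro x hx
    refine rts_pow (g := en g₁) ?_ hx
    have := congrArg en hg₁r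
    rw [en_pow] at this
    exact this
  have hxo : ∀ x ∈ R, orderOf x = r := by
    intro x hx
    have := Fact.mk hr
    apply orderOf_eq_prime (hxr x hx)
    rintro rfl
    exact hInv.ne1 _ hx (by rw [inv_one])
  have hd3 : ∀ x ∈ R, ∀ d, IsMin (Fintype.card F) x d → 3 ∣ d := by
    intro x hx d hd
    have hx0 := hInv.ne0 x hx
    apply three_dvd hq0 hr h6 hn2
    rcases hd.pow hq0 with h3 | h3
    · left
      rw [← hxo x hx]; exact orderOf_dvd_of_pow_eq_one h3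
    · right
      rw [← hxo x hx]; exact orderOf_dvd_of_pow_eq_one h3
  have hn₁0 : n₁ ≠ 0 := by
    rintro rfl
    apply hg₁1
    apply LinearEquiv.ext
    intro x
    exact Subsingleton.elim _ _
  obtain ⟨μ, hμ⟩ := Multiset.card_pos_iff_exists_mem.1 (by omega : 0 < R.card)
  obtain ⟨d, hd⟩ := exists_isMin (frob_inj F) hInv hμ
  have hdd := hd3 μ hμ d hd
  obtain ⟨R', k1, k2, k3, k4, k5⟩ := peel (frob_inj F) hInv hd
  have hcnt : 1 ≤ R.count μ := Multiset.one_le_count_iff_mem.2 hμ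
  have hdpos := hd.pos
  have hle : R.count μ * (2 * d) ≤ 9 := by omega
  have hd3' : d = 3 := by
    obtain ⟨d', rfl⟩ := hdd
    have : 1 * (2 * (3 * d')) ≤ R.count μ * (2 * (3 * d')) := Nat.mul_le_mul_right _ hcnt
    omega
  subst hd3'
  have hcnt1 : R.count μ = 1 := by omega
  have hR' : R'.card = 0 := by
    by_contra hne
    obtain ⟨ν, hν⟩ := Multiset.card_pos_iff_exists_mem.1 (Nat.pos_of_ne_zero hne)
    obtain ⟨d', hd'⟩ := exists_isMin (frob_inj F) k2 hν
    have h7 := hd3 ν ((k3 ν).1 hν).1 d' hd'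
    have h8 := d_le (frob_inj F) k2 hd' hν
    have h9 := hd'.pos
    obtain ⟨d'', rfl⟩ := h7
    omega
  have hn₁ : n₁ = 6 := by omega
  have hn₂ : n₂ = 3 := by omega
  subst hn₁
  subst hn₂
  obtain ⟨c, e2, hc, he2⟩ := exists_frame (n := 3) h2 (by decide) hQ₂ (by simp)
  refine ⟨c, hc, ((omCongr he).toMonoidHom.comp (omRight h2 hQ₁ hQ₂)).comp (omCongr he2).toMonoidHom, ?_, ?_⟩
  · exact ((omCongr he).injective.comp (omRight_injective h2 hQ₁ hQ₂)).comp (omCongr he2).injective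
  · intro h
    show a * cj e (pr 1 (omCongr he2 h).1) = cj e (pr 1 (omCongr he2 h).1) * a
    rw [hge, ← cj_mul, ← cj_mul, ← pr_mul, ← pr_mul, hg₂1, one_mul, mul_one, mul_one, one_mul]

end Cent

end Cfsg.Agent.H229.T
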