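import Mathlib
import Cfsg.Agent.S0033
import Cfsg.Agent.H229.T.Nilp

/-!
# Lifting elements modulo a normal subgroup of coprime order (helper229)
-/

set_option autoImplicit false
set_option linter.unusedSectionVars false

namespace Cfsg.Agent.H229.T

open Subgroup

variable {G : Type*} [Group G] [Finite G]

/-- the order of an element modulo `K` -/
theorem exists_order (K : Subgroup G) [K.Normal] (g : G) :
    ∃ k : ℕ, orderOf g = orderOf (g : G ⧸ K) * k ∧ orderOf (g ^ orderOf (g : G ⧸ K)) = k ∧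
      g ^ orderOf (g : G ⧸ K) ∈ K := by
  have h1 : orderOf (g : G ⧸ K) ∣ orderOf g := orderOf_map_dvd (QuotientGroup.mk' K) g
  obtain ⟨k, hk⟩ := h1
  have hpos : 0 < orderOf (g : G ⧸ K) := orderOf_pos _
  refine ⟨k, hk, ?_, ?_⟩
  · rw [orderOf_pow_of_dvd hpos.ne' ⟨k, hk⟩, hk, Nat.mul_div_cancel_left _ hpos]
  · rw [← QuotientGroup.eq_one_iff, QuotientGroup.mk_pow, pow_orderOf_eq_one]

/-- lifting an element of order prime to `|K|` -/
theorem exists_lift (K : Subgroup G) [K.Normal] {s : G ⧸ K} (hs : (orderOf s).Coprime (Nat.card K)) :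
    ∃ x : G, (x : G ⧸ K) = s ∧ orderOf x = orderOf s := by
  obtain ⟨g, rfl⟩ := QuotientGroup.mk_surjective s
  obtain ⟨k, hk, hk', hkK⟩ := exists_order K g
  have hkd : k ∣ Nat.card K := by
    rw [← hk']
    exact Subgroup.orderOf_dvd_natCard K hkK
  have hco : Nat.Coprime k (orderOf (g : G ⧸ K)) := (Nat.Coprime.coprime_dvd_right hkd hs).symm
  obtain ⟨m, hm1, hm2⟩ := Nat.chineseRemainder hco 0 1
  have hkm : k ∣ m := (Nat.modEq_zero_iff_dvd).1 hm1
  have h1 : ((g ^ m : G) : G ⧸ K) = g := by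
    rw [QuotientGroup.mk_pow]
    have h2 : (g : G ⧸ K) ^ m = (g : G ⧸ K) ^ 1 := pow_eq_pow_iff_modEq.2 hm2
    rw [h2, pow_one]
  refine ⟨g ^ m, h1, ?_⟩
  apply Nat.dvd_antisymm
  · apply orderOf_dvd_of_pow_eq_one
    rw [← pow_mul]
    obtain ⟨j, rfl⟩ := hkm
    have : k * j * orderOf (g : G ⧸ K) = orderOf g * j := by rw [hk]; ring
    rw [this, pow_mul, pow_orderOf_eq_one, one_pow]
  · have h2 := orderOf_map_dvd (QuotientGroup.mk' K) (g ^ m)
    have h3 : QuotientGroup.mk' K (g ^ m) = (g : G ⧸ K) := h1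
    rwa [h3] at h2

/-- lifting a commuting element -/
theorem exists_commute_lift (K : Subgroup G) [K.Normal] {r : ℕ} (hr : r.Prime) (hrK : ¬ r ∣ Nat.card K) {a : G}
    (ha : orderOf a = r) {x : G ⧸ K} (hx : Commute x (a : G ⧸ K)) : ∃ y : G, (y : G ⧸ K) = x ∧ Commute y a := by
  classical
  have := Fact.mk hr
  obtain ⟨g, rfl⟩ := QuotientGroup.mk_surjective x
  let α := {y : G // (y : G ⧸ K) = (g : G ⧸ K)}
  have hcard : Nat.card α = Nat.card K := by
    refine Nat.card_congr ⟨fun y => ⟨g⁻¹ * y.1, ?_⟩, fun k => ⟨g * k.1, ?_⟩, fun y => ?_, fun k => ?_⟩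
    · rw [← QuotientGroup.eq_one_iff, QuotientGroup.mk_mul, QuotientGroup.mk_inv, y.2, inv_mul_cancel]
    · rw [QuotientGroup.mk_mul, (QuotientGroup.eq_one_iff _).2 k.2, mul_one]
    · exact Subtype.ext (by simp)
    · exact Subtype.ext (by simp)
  have hmem : ∀ (b : G), Commute (g : G ⧸ K) (b : G ⧸ K) → ∀ y : α, ((b * y.1 * b⁻¹ : G) : G ⧸ K) = (g : G ⧸ K) := by
    intro b hb y
    rw [QuotientGroup.mk_mul, QuotientGroup.mk_mul, QuotientGroup.mk_inv, y.2, ← hb.eq, mul_inv_cancel_right]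
  let σ : Equiv.Perm α :=
    { toFun := fun y => ⟨a * y.1 * a⁻¹, hmem a hx y⟩
      invFun := fun y => ⟨a⁻¹ * y.1 * a⁻¹⁻¹, hmem a⁻¹ (by rw [QuotientGroup.mk_inv]; exact hx.inv_right) y⟩
      left_inv := fun y => Subtype.ext (by simp only; group)
      right_inv := fun y => Subtype.ext (by simp only; group) }
  have hσ : ∀ (n : ℕ) (y : α), ((σ ^ n) y).1 = a ^ n * y.1 * (a ^ n)⁻¹ := by
    intro n
    induction n with
    | zero => intro y; simp
    | succ n ih =>
      intro y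
      rw [pow_succ', Equiv.Perm.mul_apply]
      show a * ((σ ^ n) y).1 * a⁻¹ = _
      rw [ih, pow_succ']
      group
  have := Fintype.ofFinite α
  obtain ⟨y, hy⟩ := Equiv.Perm.exists_fixed_point_of_prime (p := r) (n := 1) (σ := σ) (by
    rw [← Nat.card_eq_fintype_card, hcard]; exact hrK) (by
    ext y
    rw [pow_one, hσ, ← ha, pow_orderOf_eq_one]
    simp)
  refine ⟨y.1, y.2, ?_⟩
  have h1 : a * y.1 * a⁻¹ = y.1 := congrArg Subtype.val hy
  have h2 : a * y.1 = y.1 * a := mul_inv_eq_iff_eq_mul.1 h1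
  exact h2.symm

/-- **Thompson.** -/
theorem nilp (K : Subgroup G) [hK : K.Normal] {r : ℕ} (hr : r.Prime) {x : G} (hx : orderOf x = r)
    (h : ∀ k ∈ K, k ≠ 1 → ¬ Commute x k) : Group.IsNilpotent K := by
  by_cases hK1 : K = ⊥
  · subst hK1
    infer_instance
  have hfp : MonoidHom.FixedPointFree ((MulAut.conjNormal x : MulAut K) : K →* K) := by
    intro k hk
    by_contra hne
    apply h k k.2 (fun h1 => hne (Subtype.ext h1))
    have h1 : x * (k : G) * x⁻¹ = k := by
      have := congrArg Subtype.val hk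
      rw [← MulAut.conjNormal_apply]
      exact this
    exact mul_inv_eq_iff_eq_mul.1 h1
  have hord : orderOf (MulAut.conjNormal x : MulAut K) = r := by
    have := Fact.mk hr
    apply orderOf_eq_prime
    · rw [← map_pow, ← hx, pow_orderOf_eq_one, map_one]
    · intro h1
      obtain ⟨k, hk⟩ := (Subgroup.ne_bot_iff_exists_ne_one).1 hK1
      apply h k k.2 (fun h2 => hk (Subtype.ext h2))
      have h2 : ((MulAut.conjNormal x k : K) : G) = k := by rw [h1]; rfl
      rw [MulAut.conjNormal_apply] at h2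
      exact mul_inv_eq_iff_eq_mul.1 h2
  exact S0033.result (MulAut.conjNormal x : MulAut K) hfp r hr hord

/-- `p ∣ |C_K(a)|` or the order modulo `K` is divisible by `N`. -/
theorem dvd_order (K : Subgroup G) [K.Normal] {g : G} {N : ℕ} (hN : N ∣ orderOf g)
    (h : (orderOf (g ^ orderOf (g : G ⧸ K))).Coprime N) : N ∣ orderOf (g : G ⧸ K) := by
  obtain ⟨k, hk, hk', hkK⟩ := exists_order K g
  rw [hk'] at h
  rw [hk] at hN
  exact h.symm.dvd_of_dvd_mul_right hN

end Cfsg.Agent.H229.T
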