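import Mathlib
import Cfsg.Agent.H202.T.Num

/-!
# Numbers which are not in the list `InL` (helper229)
-/

set_option autoImplicit false
set_option linter.unusedSectionVars false

namespace Cfsg.Agent.H229.T

open Cfsg.Agent.H202.T

section

variable {p q : ℕ}

/-- the power of two -/
theorem two_facts (hq : Odd q) (h3 : 3 ≤ q) :
    3 ≤ padicValNat 2 (q ^ 2 - 1) ∧ ¬ 2 ^ (padicValNat 2 (q ^ 2 - 1) + 1) ∣ q ^ 2 - 1 := by
  have hf : Fact (Nat.Prime 2) := ⟨Nat.prime_two⟩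
  have h9 : 3 ^ 2 ≤ q ^ 2 := Nat.pow_le_pow_left h3 2
  have hne : q ^ 2 - 1 ≠ 0 := by omega
  constructor
  · obtain ⟨k, rfl⟩ := hq
    obtain ⟨c, hc⟩ := Nat.even_mul_succ_self k
    have e : (2 * k + 1) ^ 2 - 1 = 2 ^ 3 * c := by
      have : (2 * k + 1) ^ 2 = 8 * c + 1 := by nlinarith
      omega
    have h1 : 2 ^ 3 ∣ (2 * k + 1) ^ 2 - 1 := ⟨c, e⟩
    exact (padicValNat_dvd_iff_le hne).1 h1
  · intro h
    have := (padicValNat_dvd_iff_le hne).1 h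
    omega

/-- the members of the list which can be divisible by `2 ^ k` -/
theorem cases_two (hp : p.Prime) (hp2 : p ≠ 2) (hq : Odd q) (h3 : 3 ≤ q) {k N : ℕ}
    (hk : k = padicValNat 2 (q ^ 2 - 1)) (h : InL p q N) (hkN : 2 ^ k ∣ N) :
    N ∣ (q ^ 4 - 1) / 2 ∨ N ∣ p * (q ^ 2 - 1) ∨ (p = 3 ∧ N ∣ 9 * (q ^ 2 - 1)) := by
  obtain ⟨hk3, hkn⟩ := two_facts hq h3
  rw [← hk] at hk3 hkn
  obtain ⟨Q, hQ, e1, e2, e3, e4⟩ := exists_Q hq
  have hpo : Odd p := hp.odd_of_ne_two hp2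
  have hq1 : 1 ≤ q := hq.pos
  have hmul : q ^ 2 - 1 = (q + 1) * (q - 1) := by simpa using Nat.sq_sub_sq q 1
  have cop : ∀ {a : ℕ}, Odd a → ∀ {b : ℕ}, 2 ^ k ∣ a * b → 2 ^ k ∣ b := fun {a} ha {b} hb =>
    (Nat.Coprime.pow_left k (Nat.coprime_two_left.2 ha)).dvd_of_dvd_mul_left hb
  have n1 : ¬ 2 ^ k ∣ q + 1 := fun h => hkn (by
    rw [hmul, pow_succ]
    exact Nat.mul_dvd_mul h (by obtain ⟨j, rfl⟩ := hq; exact ⟨j, by omega⟩))
  have n2 : ¬ 2 ^ k ∣ q - 1 := fun h => hkn (by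
    rw [hmul, pow_succ, mul_comm (q + 1)]
    exact Nat.mul_dvd_mul h (by obtain ⟨j, rfl⟩ := hq; exact ⟨j + 1, by omega⟩))
  have n3 : ¬ 2 ^ k ∣ 2 := fun h => by
    have h1 : 2 ^ 3 ∣ 2 := (pow_dvd_pow 2 hk3).trans h
    exact absurd (Nat.le_of_dvd (by norm_num) h1) (by norm_num)
  have o1 : Odd (q * (q - 1) + 1) := odd_fac _ _ (Or.inr (by omega))
  have o2 : Odd (q * (q + 1) + 1) := odd_fac _ _ (Or.inl rfl)
  have key : ∀ {M : ℕ}, ¬ 2 ^ k ∣ M → ¬ N ∣ M := fun hM h => hM (hkN.trans h)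
  rcases h with h | h | h | h | h | h | h | h | h | ⟨hp3, h | h⟩ | ⟨-, h | h⟩ | ⟨-, h⟩
  · exfalso
    have h1 : 2 ∣ mm q := ((dvd_pow_self 2 (by omega : k ≠ 0)).trans hkN).trans h
    have := mm_mod hq
    omega
  · exact Or.inl h
  · refine absurd h (key fun h1 => ?_)
    rw [cube_add_eq hq1] at h1
    have h2 := cop o1 (b := (q + 1) * ((q - 1) / 2)) (by rwa [← mul_assoc, mul_comm (q * (q - 1) + 1)])
    apply hkn
    have h4 : q - 1 = (q - 1) / 2 * 2 := by obtain ⟨j, rfl⟩ := hq; omega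
    rw [hmul, h4, ← mul_assoc, pow_succ]
    exact Nat.mul_dvd_mul_right h2 2
  · refine absurd h (key fun h1 => ?_)
    rw [cube_sub_eq hq1] at h1
    have h2 := cop o2 (b := (q - 1) * ((q + 1) / 2)) (by rwa [← mul_assoc, mul_comm (q * (q + 1) + 1)])
    apply hkn
    have h4 : q + 1 = (q + 1) / 2 * 2 := by obtain ⟨j, rfl⟩ := hq; omega
    rw [hmul, mul_comm, h4, ← mul_assoc, pow_succ]
    exact Nat.mul_dvd_mul_right h2 2
  · refine absurd h (key fun h1 => n1 ?_)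
    have h1 := cop hpo h1
    rw [cube_add_eq hq1, mul_comm] at h1
    exact cop o1 h1
  · refine absurd h (key fun h1 => n2 ?_)
    have h1 := cop hpo h1
    rw [cube_sub_eq hq1, mul_comm] at h1
    exact cop o2 h1
  · refine absurd h (key fun h1 => n1 ?_)
    have h1 := cop hpo h1
    have h4 : q + 1 = 2 * ((q + 1) / 2) := by obtain ⟨j, rfl⟩ := hq; omega
    have h5 : (q ^ 2 + 1) * ((q + 1) / 2) = Q * (q + 1) := by
      rw [e1]; nth_rewrite 2 [h4]; ring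
    rw [h5] at h1
    exact cop hQ h1
  · refine absurd h (key fun h1 => n2 ?_)
    have h1 := cop hpo h1
    have h4 : q - 1 = 2 * ((q - 1) / 2) := by obtain ⟨j, rfl⟩ := hq; omega
    have h5 : (q ^ 2 + 1) * ((q - 1) / 2) = Q * (q - 1) := by
      rw [e1]; nth_rewrite 2 [h4]; ring
    rw [h5] at h1
    exact cop hQ h1
  · exact Or.inr (Or.inl h)
  · refine absurd h (key fun h1 => n3 ?_)
    have h1 := cop (by decide) h1
    rw [e1, mul_comm] at h1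
    exact cop hQ h1
  · exact Or.inr (Or.inr ⟨hp3, h⟩)
  · refine absurd h (key fun h1 => n1 (cop (by decide) h1))
  · refine absurd h (key fun h1 => n2 (cop (by decide) h1))
  · refine absurd h (key fun h1 => n3 ?_)
    exact cop (a := 49) (b := 2) (by decide) h1

/-- `r` divides `q ^ 6 - 1`, not `q ^ 2 - 1` -/
theorem six_facts (hq1 : 1 ≤ q) {r : ℕ} (hr : r.Prime) (h6 : r ∣ q ^ 6 - 1) (h2 : ¬ r ∣ q ^ 2 - 1) :
    ¬ r ∣ q ^ 4 - 1 ∧ ¬ r ∣ q ∧ ¬ r ∣ q + 1 ∧ ¬ r ∣ q - 1 ∧ ¬ r ∣ q ^ 2 + 1 := by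
  have hmul : q ^ 2 - 1 = (q + 1) * (q - 1) := by simpa using Nat.sq_sub_sq q 1
  have hmul4 : q ^ 4 - 1 = (q ^ 2 + 1) * (q ^ 2 - 1) := by
    have := Nat.sq_sub_sq (q ^ 2) 1
    rw [← pow_mul] at this
    simpa using this
  have n4 : ¬ r ∣ q ^ 4 - 1 := by
    intro h
    have h3 := Nat.dvd_gcd h6 h
    rw [Nat.pow_sub_one_gcd_pow_sub_one] at h3
    exact h2 h3
  refine ⟨n4, ?_, fun h => h2 (by rw [hmul]; exact h.mul_right _), fun h => h2 (by rw [hmul]; exact h.mul_left _),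
    fun h => n4 (by rw [hmul4]; exact h.mul_right _)⟩
  intro h1
  have h3 : r ∣ q ^ 6 := dvd_pow h1 (by norm_num)
  have h4 : 1 ≤ q ^ 6 := Nat.one_le_pow _ _ hq1
  have h5 := Nat.dvd_sub h3 h6
  rw [Nat.sub_sub_self h4] at h5
  exact hr.one_lt.ne' (Nat.dvd_one.1 h5)

/-- (b) -/
theorem no_b (hp : p.Prime) (hp2 : p ≠ 2) (hpq : p ∣ q) (hq : Odd q) (h3 : 3 ≤ q) {r : ℕ} (hr : r.Prime)
    (h6 : r ∣ q ^ 6 - 1) (h2 : ¬ r ∣ q ^ 2 - 1) (hr3 : r ≠ 3) {N : ℕ} (h : InL p q N)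
    (hN : 2 ^ padicValNat 2 (q ^ 2 - 1) * r ∣ N) : False := by
  obtain ⟨n4, nq, n1, n1', n2⟩ := six_facts (by omega) hr h6 h2
  have hrN : r ∣ N := (Dvd.intro_left _ rfl).trans hN
  have hrp : ¬ r ∣ p := fun h => nq (h.trans hpq)
  have half : ¬ r ∣ (q ^ 4 - 1) / 2 := fun h => n4 (by
    obtain ⟨j, hj⟩ := Nat.Odd.sub_odd (hq.pow (n := 4)) odd_one
    have e : (q ^ 4 - 1) / 2 * 2 = q ^ 4 - 1 := by omega
    rw [← e]; exact h.mul_right _)
  rcases cases_two hp hp2 hq h3 rfl h ((Dvd.intro _ rfl).trans hN) with h | h | ⟨-, h⟩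
  · exact half (hrN.trans h)
  · rcases (hr.dvd_mul).1 (hrN.trans h) with h | h
    · exact hrp h
    · exact h2 h
  · rcases (hr.dvd_mul).1 (hrN.trans h) with h | h
    · exact hr3 ((Nat.prime_dvd_prime_iff_eq hr Nat.prime_three).1 (hr.dvd_of_dvd_pow (show r ∣ 3 ^ 2 from h)))
    · exact h2 h

/-- (c) -/
theorem no_c (hp : p.Prime) (hp2 : p ≠ 2) (hq : Odd q) (h3 : 3 ≤ q) {N : ℕ} (h : InL p q N)
    (hN : 2 ^ padicValNat 2 (q ^ 2 - 1) * 2 ∣ N) : False := by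
  obtain ⟨Q, hQ, e1, e2, e3, e4⟩ := exists_Q hq
  rw [← pow_succ] at hN
  have h1 := h.two_pow (hp.odd_of_ne_two hp2) hq hN
  apply (two_facts hq h3).2
  rw [e3, show 2 * Q * (Q - 1) = Q * (q ^ 2 - 1) by rw [e2]; ring] at h1
  exact (Nat.Coprime.pow_left _ (Nat.coprime_two_left.2 hQ)).dvd_of_dvd_mul_left h1

theorem cube_mod (_ : 1 ≤ q) : (q % 3 = 1 → ¬ 3 ∣ q ^ 3 + 1) ∧ (q % 3 = 2 → ¬ 3 ∣ q ^ 3 - 1) := by
  constructor
  · intro h h1
    have h2 : q ^ 3 % 3 = 1 := by rw [Nat.pow_mod, h]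
    omega
  · intro h h1
    have h2 : q ^ 3 % 3 = 2 := by rw [Nat.pow_mod, h]
    omega

/-- (d) -/
theorem no_d (hp : p.Prime) (hp5 : 5 ≤ p) (hpq : p ∣ q) (hq : Odd q) {r : ℕ} (hr : r.Prime)
    (h6 : r ∣ q ^ 6 - 1) (h2 : ¬ r ∣ q ^ 2 - 1) (hr7 : 7 ≤ r)
    (hε : (q % 3 = 1 ∧ ¬ r ∣ q ^ 3 - 1) ∨ (q % 3 = 2 ∧ ¬ r ∣ q ^ 3 + 1)) {N : ℕ} (h : InL p q N)
    (hN : 3 * (p * r) ∣ N) : False := by
  have hq1 : 1 ≤ q := hq.pos
  obtain ⟨n4, nq, n1, n1', n2⟩ := six_facts hq1 hr h6 h2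
  have hrN : r ∣ N := (Dvd.intro_left _ rfl).trans ((Dvd.intro_left _ rfl).trans hN)
  have hpN : p ∣ N := (Dvd.intro _ rfl).trans ((Dvd.intro_left _ rfl).trans hN)
  have h3N : 3 ∣ N := (Dvd.intro _ rfl).trans hN
  have hrp : ¬ r ∣ p := fun h => nq (h.trans hpq)
  have hp2 : p ≠ 2 := by omega
  have npk : ∀ k, k ≠ 0 → ¬ p ∣ q ^ k - 1 := fun k hk h => by
    have h4 : p ∣ q ^ k := dvd_pow hpq hk
    have h5 : 1 ≤ q ^ k := Nat.one_le_pow _ _ hq1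
    have h7 := Nat.dvd_sub h4 h
    rw [Nat.sub_sub_self h5] at h7
    exact hp.one_lt.ne' (Nat.dvd_one.1 h7)
  have npk' : ∀ k, k ≠ 0 → ¬ p ∣ q ^ k + 1 := fun k hk h => by
    have h4 : p ∣ q ^ k := dvd_pow hpq hk
    have h7 := (Nat.dvd_add_right h4).1 h
    exact hp.one_lt.ne' (Nat.dvd_one.1 h7)
  have half : ∀ {s a : ℕ}, Even a → ¬ s ∣ a → ¬ s ∣ a / 2 := fun {s a} ha h h' =>
    h (by obtain ⟨b, rfl⟩ := ha; rw [show (b + b) / 2 = b by omega] at h'; exact (h'.add h'))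
  have evp : Even (q + 1) := hq.add_one
  have evm : Even (q - 1) := Nat.Odd.sub_odd hq odd_one
  have ev4 : Even (q ^ 4 - 1) := Nat.Odd.sub_odd hq.pow odd_one
  have ev4' : Even (q ^ 4 + 1) := hq.pow.add_one
  have mul : ∀ {s a b : ℕ}, s.Prime → ¬ s ∣ a → ¬ s ∣ b → ¬ s ∣ a * b := fun {s a b} hs ha hb h =>
    (hs.dvd_mul.1 h).elim ha hb
  have p1 := npk 1 one_ne_zero
  have p1' := npk' 1 one_ne_zero
  rw [pow_one] at p1 p1'
  have n3p : ¬ 3 ∣ p := fun h => by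
    have := (Nat.prime_dvd_prime_iff_eq Nat.prime_three hp).1 h
    omega
  obtain ⟨c1, c2⟩ := cube_mod (q := q) hq1
  rcases h with h | h | h | h | h | h | h | h | h | ⟨hp3, h | h⟩ | ⟨rfl, h | h⟩ | ⟨rfl, h⟩
  · exact half ev4' (npk' 4 (by norm_num)) (hpN.trans h)
  · exact half ev4 (npk 4 (by norm_num)) (hpN.trans h)
  · exact mul hp (npk' 3 (by norm_num)) (half evm p1) (hpN.trans h)
  · exact mul hp (npk 3 (by norm_num)) (half evp p1') (hpN.trans h)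
  · rcases hε with ⟨e1, e2⟩ | ⟨e1, e2⟩
    · exact mul Nat.prime_three n3p (c1 e1) (h3N.trans h)
    · exact mul hr hrp e2 (hrN.trans h)
  · rcases hε with ⟨e1, e2⟩ | ⟨e1, e2⟩
    · exact mul hr hrp e2 (hrN.trans h)
    · exact mul Nat.prime_three n3p (c2 e1) (h3N.trans h)
  · exact mul hr hrp (mul hr n2 (half evp n1)) (hrN.trans h)
  · exact mul hr hrp (mul hr n2 (half evm n1')) (hrN.trans h)
  · exact mul hr hrp h2 (hrN.trans h)
  · omega
  · omega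
  · have h25 : ¬ r ∣ 25 := fun h => by
      have := (Nat.prime_dvd_prime_iff_eq hr Nat.prime_five).1 (hr.dvd_of_dvd_pow (show r ∣ 5 ^ 2 from h))
      omega
    exact mul hr h25 n1 (hrN.trans h)
  · have h25 : ¬ r ∣ 25 := fun h => by
      have := (Nat.prime_dvd_prime_iff_eq hr Nat.prime_five).1 (hr.dvd_of_dvd_pow (show r ∣ 5 ^ 2 from h))
      omega
    exact mul hr h25 n1' (hrN.trans h)
  · exact absurd (h3N.trans h) (by norm_num)

/-- (e) -/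
theorem no_e (hpq : 3 ∣ q) (hq : Odd q) {N : ℕ} (h : InL 3 q N) (hN : 27 ∣ N) : False := by
  have hq1 : 1 ≤ q := hq.pos
  have hp := Nat.prime_three
  have npk : ∀ k, k ≠ 0 → Nat.Coprime 27 (q ^ k - 1) := fun k hk => by
    have : ¬ 3 ∣ q ^ k - 1 := fun h => by
      have h4 : 3 ∣ q ^ k := dvd_pow hpq hk
      have h5 : 1 ≤ q ^ k := Nat.one_le_pow _ _ hq1
      have h7 := Nat.dvd_sub h4 h
      rw [Nat.sub_sub_self h5] at h7
      omega
    exact Nat.Coprime.pow_left 3 ((Nat.Prime.coprime_iff_not_dvd hp).2 this)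
  have npk' : ∀ k, k ≠ 0 → Nat.Coprime 27 (q ^ k + 1) := fun k hk => by
    have : ¬ 3 ∣ q ^ k + 1 := fun h => by
      have h4 : 3 ∣ q ^ k := dvd_pow hpq hk
      have h7 := (Nat.dvd_add_right h4).1 h
      omega
    exact Nat.Coprime.pow_left 3 ((Nat.Prime.coprime_iff_not_dvd hp).2 this)
  have half : ∀ {a : ℕ}, Even a → Nat.Coprime 27 a → Nat.Coprime 27 (a / 2) := fun {a} ha h =>
    Nat.Coprime.coprime_dvd_right (Nat.div_dvd_of_dvd ha.two_dvd) h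
  have evp : Even (q + 1) := hq.add_one
  have evm : Even (q - 1) := Nat.Odd.sub_odd hq odd_one
  have ev4 : Even (q ^ 4 - 1) := Nat.Odd.sub_odd hq.pow odd_one
  have ev4' : Even (q ^ 4 + 1) := hq.pow.add_one
  have p1 := npk 1 one_ne_zero
  have p1' := npk' 1 one_ne_zero
  rw [pow_one] at p1 p1'
  have bad : ∀ {a b : ℕ}, Nat.Coprime 27 b → N ∣ a * b → 27 ∣ a := fun {a b} hb h =>
    hb.dvd_of_dvd_mul_right (hN.trans h)
  rcases h with h | h | h | h | h | h | h | h | h | ⟨-, h | h⟩ | ⟨h5, -⟩ | ⟨h7, -⟩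
  · have := bad (a := 1) (half ev4' (npk' 4 (by norm_num))) (by rw [one_mul]; exact h)
    omega
  · have := bad (a := 1) (half ev4 (npk 4 (by norm_num))) (by rw [one_mul]; exact h)
    omega
  · have := bad (a := 1) (Nat.Coprime.mul_right (npk' 3 (by norm_num)) (half evm p1)) (by rw [one_mul]; exact h)
    omega
  · have := bad (a := 1) (Nat.Coprime.mul_right (npk 3 (by norm_num)) (half evp p1')) (by rw [one_mul]; exact h)
    omega
  · have := bad (npk' 3 (by norm_num)) h; omega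
  · have := bad (npk 3 (by norm_num)) h; omega
  · have := bad (Nat.Coprime.mul_right (npk' 2 (by norm_num)) (half evp p1')) h; omega
  · have := bad (Nat.Coprime.mul_right (npk' 2 (by norm_num)) (half evm p1)) h; omega
  · have := bad (npk 2 (by norm_num)) h; omega
  · have := bad (npk' 2 (by norm_num)) h; omega
  · have := bad (npk 2 (by norm_num)) h; omega
  · omega
  · omega

end

end Cfsg.Agent.H229.T
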