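import Mathlib
import Cfsg.Agent.H229.T.Om

/-!
# A Frobenius group `q² : 2^k`, `2^k = (q² - 1)₂`, in `Ω₉(q)` (helper229)
-/

set_option autoImplicit false
set_option linter.unusedSectionVars false

namespace Cfsg.Agent.H229.T

open QuadraticMap Module
open Cfsg.Agent.LieClassical.OrthCore Cfsg.Agent.LieClassical.OrthForms Cfsg.Agent.LieClassical.OrthFinite
open Cfsg.Agent.H160 Cfsg.Agent.H160.QSpin Cfsg.Agent.H160.QDisc Cfsg.Agent.H160.QFinal Cfsg.Agent.H160.QModel
open Cfsg.Agent.H160.QReal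

section Model

variable {F : Type*} [Field F] {L : Type} [Field L] [Algebra F L]

/-- the unipotent isometries -/
noncomputable def un (F : Type*) [Field F] {L : Type} [Field L] [Algebra F L] (b : L) :
    ((L × F) × (L × F)) ≃ₗ[F] ((L × F) × (L × F)) where
  toFun x := ((x.1.1 + x.1.2 • b, x.1.2), (x.2.1, x.2.2 - Algebra.trace F L (b * x.2.1)))
  map_add' x y := by
    ext
    · simp only [Prod.fst_add, Prod.snd_add, add_smul]; abel
    · rfl
    · rfl
    · simp only [Prod.fst_add, Prod.snd_add, mul_add, map_add]; abel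
  map_smul' c x := by
    ext
    · simp only [Prod.smul_fst, Prod.smul_snd, RingHom.id_apply, smul_add, smul_smul, smul_eq_mul]
    · rfl
    · rfl
    · simp only [Prod.smul_fst, Prod.smul_snd, RingHom.id_apply, smul_eq_mul, mul_sub,
        Algebra.mul_smul_comm, map_smul]
  invFun x := ((x.1.1 - x.1.2 • b, x.1.2), (x.2.1, x.2.2 + Algebra.trace F L (b * x.2.1)))
  left_inv x := by
    ext <;> simp
  right_inv x := by
    ext <;> simp

theorem un_apply (b : L) (x : (L × F) × (L × F)) :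
    un F b x = ((x.1.1 + x.1.2 • b, x.1.2), (x.2.1, x.2.2 - Algebra.trace F L (b * x.2.1))) := rfl

/-- as a homomorphism -/
noncomputable def unHom (F : Type*) [Field F] (L : Type) [Field L] [Algebra F L] :
    Multiplicative L →* (((L × F) × (L × F)) ≃ₗ[F] ((L × F) × (L × F))) where
  toFun b := un F b.toAdd
  map_one' := by
    apply LinearEquiv.ext
    intro x
    show un F (0 : L) x = x
    rw [un_apply]
    ext <;> simp
  map_mul' a b := by
    apply LinearEquiv.ext
    intro x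
    show un F (a.toAdd + b.toAdd) x = un F a.toAdd (un F b.toAdd x)
    simp only [un_apply, add_mul, map_add, smul_add]
    ext
    · simp only; abel
    · rfl
    · rfl
    · simp only; abel

theorem un_injective : Function.Injective (unHom F L) := by
  intro a b h
  have h1 : un F a.toAdd ((0, 1), (0, 0)) = un F b.toAdd ((0, 1), (0, 0)) :=
    congrArg (fun g : ((L × F) × (L × F)) ≃ₗ[F] ((L × F) × (L × F)) => g ((0, 1), (0, 0))) h
  simpa [un_apply] using h1

/-- the form -/
noncomputable def BB (F : Type*) [Field F] (L : Type) [Field L] [Algebra F L] :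
    LinearMap.BilinForm F ((L × F) × (L × F)) :=
  LinearMap.mk₂ F (fun x y => Algebra.trace F L (x.1.1 * y.2.1) + x.1.2 * y.2.2)
    (fun x x' y => by simp only [Prod.fst_add, Prod.snd_add, add_mul, map_add]; ring)
    (fun c x y => by simp only [Prod.smul_fst, Prod.smul_snd, smul_mul_assoc, map_smul, smul_eq_mul]; ring)
    (fun x y y' => by simp only [Prod.fst_add, Prod.snd_add, mul_add, map_add]; ring)
    (fun c x y => by simp only [Prod.smul_fst, Prod.smul_snd, mul_smul_comm, map_smul, smul_eq_mul]; ring)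

theorem BB_apply (x y : (L × F) × (L × F)) : BB F L x y = Algebra.trace F L (x.1.1 * y.2.1) + x.1.2 * y.2.2 := rfl

theorem un_mem_O (b : L) : un F b ∈ O (qf (BB F L)) := by
  apply mem_O_qf
  intro x y
  rw [BB_apply, BB_apply, un_apply, un_apply]
  simp only [add_mul, map_add, smul_mul_assoc, map_smul, smul_eq_mul]
  ring

/-- the torus -/
noncomputable def tor (F : Type*) [Field F] {L : Type} [Field L] [Algebra F L] (z : Lˣ) :
    ((L × F) × (L × F)) ≃ₗ[F] ((L × F) × (L × F)) := pr (pr (ml F L z) 1) (pr (ml F L z⁻¹) 1)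

theorem to_apply (z : Lˣ) (x : (L × F) × (L × F)) :
    tor F z x = ((z * x.1.1, x.1.2), (((z⁻¹ : Lˣ) : L) * x.2.1, x.2.2)) := rfl

theorem to_mem_O (z : Lˣ) : tor F z ∈ O (qf (BB F L)) := by
  apply mem_O_qf
  intro x y
  rw [BB_apply, BB_apply, to_apply, to_apply]
  simp only
  congr 2
  have : (z : L) * ((z⁻¹ : Lˣ) : L) = 1 := Units.mul_inv z
  linear_combination (x.1.1 * y.2.1) * this

theorem det_to [FiniteDimensional F L] (z : Lˣ) : LinearEquiv.det (tor F z) = 1 := by
  unfold tor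
  rw [det_pr, det_pr, det_pr, map_inv, map_inv, map_one]
  simp

theorem orderOf_to (z : Lˣ) : orderOf (tor F z) = orderOf z := by
  unfold tor
  rw [orderOf_pr, orderOf_pr, orderOf_pr, orderOf_ml, orderOf_ml, orderOf_inv, orderOf_one, Nat.lcm_one_right,
    Nat.lcm_self]

theorem to_conj (z : Lˣ) (b : L) : tor F z * un F b = un F (z * b) * tor F z := by
  apply LinearEquiv.ext
  intro x
  show tor F z (un F b x) = un F (z * b) (tor F z x)
  simp only [un_apply, to_apply]
  have hz : (z : L) * ((z⁻¹ : Lˣ) : L) = 1 := Units.mul_inv z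
  ext
  · simp only [mul_add, mul_smul_comm]
  · rfl
  · rfl
  · simp only
    congr 2
    linear_combination (-(b * x.2.1)) * hz

theorem nondeg_BB [FiniteDimensional F L] [Algebra.IsSeparable F L] : Nondeg (qf (BB F L)) := by
  have htr : ∀ x : L, (∀ y : L, Algebra.trace F L (x * y) = 0) → x = 0 := by
    intro x hx
    exact (traceForm_nondegenerate F L).1 x hx
  intro x hx
  have hp : ∀ y, BB F L x y + BB F L y x = 0 := fun y => by rw [← polar_qf]; exact hx y
  have h1 : x.1.1 = 0 := htr _ fun y => by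
    have := hp ((0, 0), (y, 0))
    simpa [BB_apply] using this
  have h3 : x.2.1 = 0 := htr _ fun y => by
    have := hp ((y, 0), (0, 0))
    simpa [BB_apply, mul_comm] using this
  have h4 : x.1.2 = 0 := by
    have := hp ((0, 0), (0, 1))
    simpa [BB_apply] using this
  have h5 : x.2.2 = 0 := by
    have := hp ((0, 1), (0, 0))
    simpa [BB_apply] using this
  ext
  · exact h1
  · exact h4
  · exact h3
  · exact h5

end Model

section Main

variable {F : Type*} [Field F] [Fintype F] [DecidableEq F]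

/-- **A Frobenius group `q² : 2^k` in `Ω₉(q)`.** -/
theorem exists_frob (h2 : (2 : F) ≠ 0) {V : Type*} [AddCommGroup V] [Module F V] [FiniteDimensional F V] [Finite V]
    {Q : QuadraticForm F V} (hQ : Nondeg Q) (hV : finrank F V = 9) :
    ∃ (L : Type) (_ : Field L) (_ : Finite L) (ζ : Lˣ) (u : Multiplicative L →* Om Q) (c : Om Q),
      Nat.card L = Fintype.card F ^ 2 ∧ Function.Injective u ∧
      orderOf ζ = 2 ^ padicValNat 2 (Fintype.card F ^ 2 - 1) ∧
      orderOf c = 2 ^ padicValNat 2 (Fintype.card F ^ 2 - 1) ∧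
      ∀ b : L, c * u (Multiplicative.ofAdd b) = u (Multiplicative.ofAdd (ζ * b)) * c := by
  obtain ⟨p, hpF⟩ := CharP.exists F
  have hp : Fact p.Prime := ⟨CharP.char_is_prime F p⟩
  let L := FiniteField.Extension F p 2
  have hcard : Nat.card L = Fintype.card F ^ 2 := by
    rw [FiniteField.natCard_extension, Nat.card_eq_fintype_card]
  have hfr : finrank F L = 2 := FiniteField.finrank_extension F p 2
  obtain ⟨ζ₀, hζ₀⟩ := exists_gen hcard
  set q := Fintype.card F with hq
  obtain ⟨e, he⟩ := QUpper.card_odd_eq (F := F) h2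
  rw [← hq] at he
  set k := padicValNat 2 (q ^ 2 - 1) with hk
  have hq1 : 1 < q := Fintype.one_lt_card
  have hN0 : q ^ 2 - 1 ≠ 0 := by
    have : 2 ^ 2 ≤ q ^ 2 := Nat.pow_le_pow_left hq1 2
    omega
  have hkd : 2 ^ k ∣ q ^ 2 - 1 := pow_padicValNat_dvd
  have hk1 : 1 ≤ k := by
    rw [hk]
    have : Fact (Nat.Prime 2) := ⟨Nat.prime_two⟩
    apply one_le_padicValNat_of_dvd hN0
    have : q ^ 2 = 2 * (2 * e ^ 2 + 2 * e) + 1 := by rw [he]; ring
    omega
  obtain ⟨j, hj⟩ := hkd
  have hj0 : j ≠ 0 := by rintro rfl; omega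
  let ζ : Lˣ := ζ₀ ^ j
  have hζ : orderOf ζ = 2 ^ k := by
    rw [orderOf_pow_of_dvd hj0 (by rw [hζ₀, hj]; exact Dvd.intro_left _ rfl), hζ₀, hj,
      Nat.mul_div_cancel _ (Nat.pos_of_ne_zero hj0)]
  have hζ1 : (ζ : L) - 1 ≠ 0 := by
    intro h0
    have h1 : ζ = 1 := Units.ext (sub_eq_zero.1 h0)
    rw [h1, orderOf_one] at hζ
    have : 2 ^ 1 ≤ 2 ^ k := Nat.pow_le_pow_right (by norm_num) hk1
    omega
  -- the six dimensional part
  have hfin : Finite ((L × F) × (L × F)) := inferInstance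
  have hB := nondeg_BB (F := F) (L := L)
  obtain ⟨s, hs⟩ : ∃ s, spin (qf (BB F L)) ⟨tor F ζ, to_mem_O ζ⟩ = s := ⟨_, rfl⟩
  have hel : El (qf (BB F L)) s (tor F ζ) := ⟨to_mem_O ζ, det_to ζ, hs⟩
  -- the plane
  obtain ⟨Q2, g2, hQ2, hdc2, hg2, hg2o⟩ := rz_neg h2 (F := F) s
  -- the line
  obtain ⟨a, ha0, ha⟩ := exists_oneF (F := F) h2 (d := dc (qf (BB F L)) * s * dc Q) (by
    rcases dc_cases hB with h | h <;> rcases QMain.units_cases s with h' | h' <;> rcases dc_cases hQ with h'' | h'' <;>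
      rw [h, h', h''] <;> simp)
  let Q' := (qf (BB F L)).prod (Q2.prod (oneF a))
  have hQ' : Nondeg Q' := nondeg_prod hB (nondeg_prod hQ2 (nondeg_oneF h2 ha0))
  have hdc : dc Q' = dc Q := by
    rw [dc_prod, dc_prod, hdc2, ha]
    rcases dc_cases hB with h | h <;> rcases QMain.units_cases s with h' | h' <;> rw [h, h'] <;> ring
  have hfr' : finrank F (((L × F) × (L × F)) × ((Fin 2 → F) × F)) = 9 := by
    simp [hfr]
  obtain ⟨ε, hε⟩ := exists_iso h2 hQ' hQ (by rw [hfr', hV]) hdc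
  -- the elements
  have hc : El Q' 1 (pr (tor F ζ) (pr g2 1)) := by
    have h3 := El.pr h2 hB (nondeg_prod hQ2 (nondeg_oneF h2 ha0)) hel
      (El.pr h2 hQ2 (nondeg_oneF h2 ha0) hg2 (El.one (oneF a)))
    rwa [mul_one, Int.units_mul_self] at h3
  have hco : orderOf (pr (tor F ζ) (pr g2 (1 : F ≃ₗ[F] F))) = 2 ^ k := by
    rw [orderOf_pr, orderOf_pr, orderOf_to, hζ, hg2o, orderOf_one, Nat.lcm_one_right]
    exact Nat.lcm_eq_left (dvd_pow_self 2 (by omega))
  -- the unipotent elements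
  have hu : ∀ b : L, un F b ∈ Om (qf (BB F L)) := by
    intro b
    have h3 := comm_mem_Om (to_mem_O (F := F) ζ) (un_mem_O (F := F) (((ζ : L) - 1)⁻¹ * b))
    have h4 : tor F ζ * un F (((ζ : L) - 1)⁻¹ * b) * (tor F ζ)⁻¹ * (un F (((ζ : L) - 1)⁻¹ * b))⁻¹ = un F b := by
      rw [to_conj, mul_inv_cancel_right]
      have h5 : un F ((ζ : L) * (((ζ : L) - 1)⁻¹ * b)) = un F b * un F (((ζ : L) - 1)⁻¹ * b) := by
        have h6 := (unHom F L).map_mul (Multiplicative.ofAdd b) (Multiplicative.ofAdd (((ζ : L) - 1)⁻¹ * b))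
        have h7 : un F (b + ((ζ : L) - 1)⁻¹ * b) = un F b * un F (((ζ : L) - 1)⁻¹ * b) := h6
        rw [← h7]
        congr 1
        have h8 : ((ζ : L) - 1) * ((ζ : L) - 1)⁻¹ = 1 := mul_inv_cancel₀ hζ1
        linear_combination b * h8
      rw [h5, mul_inv_cancel_right]
    rwa [h4] at h3
  let u₀ : Multiplicative L →* Om Q' :=
    { toFun := fun b => ⟨pr (un F b.toAdd) 1, by
        have := El.pr h2 hB (nondeg_prod hQ2 (nondeg_oneF h2 ha0)) (hu b.toAdd) (El.one (Q2.prod (oneF a)))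
        rwa [one_mul] at this⟩
      map_one' := Subtype.ext (by
        show pr (unHom F L 1) 1 = 1
        rw [map_one]; rfl)
      map_mul' := fun x y => Subtype.ext (by
        show pr (unHom F L (x * y)) 1 = pr (unHom F L x) 1 * pr (unHom F L y) 1
        rw [map_mul, ← pr_mul, one_mul]) }
  refine ⟨L, inferInstance, inferInstance, ζ, (omCongr hε).toMonoidHom.comp u₀, omCongr hε ⟨_, hc⟩, hcard, ?_, hζ, ?_, ?_⟩
  · apply (omCongr hε).injective.comp
    intro x y hxy
    apply un_injective (F := F)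
    apply LinearEquiv.ext
    intro v
    have h3 : (pr (un F x.toAdd) (1 : ((Fin 2 → F) × F) ≃ₗ[F] _)) (v, 0) = (pr (un F y.toAdd) 1) (v, 0) :=
      congrArg (fun k : Om Q' => k.1 (v, 0)) hxy
    exact congrArg Prod.fst h3
  · rw [MulEquiv.orderOf_eq, ← Subgroup.orderOf_coe, hco]
  · intro b
    show omCongr hε ⟨_, hc⟩ * omCongr hε (u₀ (Multiplicative.ofAdd b)) =
      omCongr hε (u₀ (Multiplicative.ofAdd (ζ * b))) * omCongr hε ⟨_, hc⟩
    rw [← map_mul, ← map_mul]
    congr 1
    apply Subtype.ext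
    show pr (tor F ζ) (pr g2 (1 : F ≃ₗ[F] F)) * pr (un F b) (1 : ((Fin 2 → F) × F) ≃ₗ[F] ((Fin 2 → F) × F)) =
      pr (un F (ζ * b)) (1 : ((Fin 2 → F) × F) ≃ₗ[F] ((Fin 2 → F) × F)) * pr (tor F ζ) (pr g2 (1 : F ≃ₗ[F] F))
    rw [← pr_mul, ← pr_mul, to_conj, one_mul, mul_one]

end Main

end Cfsg.Agent.H229.T
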