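import Mathlib
import Cfsg.Agent.H229.T.Abs
import Cfsg.Agent.H229.T.Ar
import Cfsg.Agent.H229.T.FrobOm
import Cfsg.Agent.H229.T.AFour
import Cfsg.Agent.H229.T.Cent

/-!
# `ω(G) = ω(PSp₈(q))`, section `Ω₉(q)`: the soluble radical (helper229)
-/

set_option autoImplicit false
set_option linter.unusedSectionVars false

namespace Cfsg.Agent.H229.T

open Cfsg.Agent.H202.T
open QuadraticMap Module
open Cfsg.Agent.LieClassical.OrthCore Cfsg.Agent.LieClassical.OrthForms Cfsg.Agent.LieClassical.OrthFinite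
open Cfsg.Agent.H160 Cfsg.Agent.H160.QSpin Cfsg.Agent.H160.QDisc

section Com

variable {G : Type*} [Group G] [Finite G]

/-- three commuting elements -/
theorem dvd_of_commute {a w y : G} {r p m : ℕ} (h1 : Commute a w) (h2 : Commute y a) (h3 : Commute y w)
    (ha : orderOf a = r) (hw : orderOf w = p) (hy : m ∣ orderOf y) (hrp : r.Coprime p) (hm : m.Coprime (p * r)) :
    ∃ x : G, m * (p * r) ∣ orderOf x := by
  have h4 : orderOf (a * w) = r * p := by
    rw [h1.orderOf_mul_eq_mul_orderOf_of_coprime (by rw [ha, hw]; exact hrp), ha, hw]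
  have h5 : Commute y (a * w) := h2.mul_right h3
  obtain ⟨x, -, hx⟩ := h5.exists_orderOf_eq_lcm
  refine ⟨x, ?_⟩
  rw [hx]
  apply Nat.Coprime.mul_dvd_of_dvd_of_dvd hm
  · exact hy.trans (Nat.dvd_lcm_left _ _)
  · rw [mul_comm p r, ← h4]
    exact Nat.dvd_lcm_right _ _

end Com

section CaseA

universe u

variable {G : Type u} [Group G] [Finite G] {K : Subgroup G} [K.Normal]

/-- **A subgroup `X` of `C_{G/K}(a)` such that some element of order 3 of `X` has a fixed point.** -/
theorem case_a (hK : Group.IsNilpotent K) {r p : ℕ} (hr : r.Prime) (hp : p.Prime) (hrK : ¬ r ∣ Nat.card K)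
    (hrp : r ≠ p) (hr3 : r ≠ 3) (hp3 : p ≠ 3)
    {a : G} (ha : orderOf a = r) {X : Type*} [Group X] (φ : X →* G ⧸ K) (hφ : Function.Injective φ)
    (hc : ∀ x, Commute (φ x) (a : G ⧸ K))
    (hX : ∀ (W : Type u) [CommGroup W] (θ : X →* MulAut W), (∀ v : W, v ^ p = 1) → (∃ w : W, w ≠ 1) →
      ∃ b : X, orderOf b = 3 ∧ ∃ w : W, w ≠ 1 ∧ θ b w = w)
    (hex : ∃ k ∈ K, orderOf k = p ∧ Commute k a) : ∃ x : G, 3 * (p * r) ∣ orderOf x := by
  classical
  have hpf := Fact.mk hp
  let G1 : Subgroup G := Subgroup.centralizer {a}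
  let K1 : Subgroup G1 := K.subgroupOf G1
  have hK1 : Group.IsNilpotent K1 := by
    let f : K1 →* K :=
      { toFun := fun x => ⟨((x : G1) : G), x.2⟩
        map_one' := rfl
        map_mul' := fun _ _ => rfl }
    have hf : Function.Injective f := fun x y h => by
      have h1 : (((x : G1) : G)) = ((y : G1) : G) := congrArg (fun z : K => (z : G)) h
      exact Subtype.ext (Subtype.ext h1)
    have := hK
    exact Subgroup.isNilpotent_of_ker_le_center f (by rw [(MonoidHom.ker_eq_bot_iff f).2 hf]; exact bot_le)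
  have hpK1 : p ∣ Nat.card K1 := by
    obtain ⟨k, hkK, hko, hka⟩ := hex
    have hk1 : k ∈ G1 := by
      rw [Subgroup.mem_centralizer_singleton_iff]
      exact hka.eq
    have : orderOf (⟨⟨k, hk1⟩, hkK⟩ : K1) = p := by
      rw [← Subgroup.orderOf_coe, ← Subgroup.orderOf_coe]
      exact hko
    rw [← this]
    exact orderOf_dvd_natCard _
  -- the embedding of the quotient
  let ι : G1 ⧸ K1 →* G ⧸ K := QuotientGroup.map K1 K G1.subtype (fun x hx => hx)
  have hι : Function.Injective ι := by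
    rw [injective_iff_map_eq_one]
    intro x hx
    obtain ⟨x, rfl⟩ := QuotientGroup.mk_surjective x
    have h1 : ((x : G) : G ⧸ K) = 1 := hx
    rw [QuotientGroup.eq_one_iff] at h1 ⊢
    exact h1
  have hrange : ∀ x, φ x ∈ ι.range := by
    intro x
    obtain ⟨y, hy, hya⟩ := exists_commute_lift K hr hrK ha (hc x)
    have hy1 : y ∈ G1 := by
      rw [Subgroup.mem_centralizer_singleton_iff]
      exact hya.eq
    exact ⟨((⟨y, hy1⟩ : G1) : G1 ⧸ K1), hy⟩
  let ψ : X →* G1 ⧸ K1 := (MonoidHom.ofInjective hι).symm.toMonoidHom.comp (φ.codRestrict ι.range hrange)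
  have hψ : ∀ x, ι (ψ x) = φ x := by
    intro x
    have h1 := (MonoidHom.ofInjective hι).apply_symm_apply (φ.codRestrict ι.range hrange x)
    exact congrArg Subtype.val h1
  have hψi : Function.Injective ψ := by
    intro x y h
    apply hφ
    rw [← hψ, ← hψ, h]
  obtain ⟨w₀, hw₀, hw₀1⟩ := zt_ne_bot (K := K1) hK1 hp hpK1
  obtain ⟨b, hb3, w, hw1, hbw⟩ := hX (zt K1 p) ((act K1 p).comp ψ) (pow_eq K1 p)
    ⟨⟨w₀, hw₀⟩, fun h => hw₀1 (congrArg (fun z : zt K1 p => (z : G1)) h)⟩
  obtain ⟨y, hy⟩ := QuotientGroup.mk_surjective (ψ b)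
  have hyw : Commute (y : G1) (w : G1) := by
    apply exists_commute (t := p) (v := w)
    rw [hy]
    exact hbw
  have hwo : orderOf ((w : G1) : G) = p := by
    rw [Subgroup.orderOf_coe]
    apply orderOf_eq_prime
    · exact congrArg Subtype.val (pow_eq K1 p w)
    · exact fun h => hw1 (Subtype.ext h)
  have hy3 : 3 ∣ orderOf (y : G) := by
    have h1 : orderOf (ψ b) = 3 := by rw [orderOf_injective ψ hψi, hb3]
    rw [← h1, ← hy, Subgroup.orderOf_coe]
    exact orderOf_map_dvd (QuotientGroup.mk' K1) y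
  have hcen : ∀ x : G1, Commute (x : G) a := fun x => by
    have := x.2
    rw [Subgroup.mem_centralizer_singleton_iff] at this
    exact this
  refine dvd_of_commute (a := a) (w := ((w : G1) : G)) (y := (y : G)) (hcen _).symm (hcen _) ?_ ha hwo hy3
    ((Nat.coprime_primes hr hp).2 hrp) ?_
  · exact congrArg Subtype.val hyw.eq
  · exact Nat.Coprime.mul_right ((Nat.coprime_primes Nat.prime_three hp).2 hp3.symm)
      ((Nat.coprime_primes Nat.prime_three hr).2 hr3.symm)

end CaseA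

section Main

universe u

variable {F : Type*} [Field F] [Fintype F] {p : ℕ} [hp : Fact p.Prime] [CharP F p]

/-- **The soluble radical.** -/
theorem k_half (hodd : Odd (Fintype.card F)) {G : Type u} [Group G] [Finite G] {K : Subgroup G} [K.Normal]
    {S : Subgroup (G ⧸ K)} [S.Normal] (hS : IsSimpleGroup S)
    (e : ↥S ≃* Cfsg.POmega F (Cfsg.quadFormOdd 4 F))
    (hom : ∀ x : G, InL p (Fintype.card F) (orderOf x))
    (hK : ∀ t : ℕ, t.Prime → t ∣ mm (Fintype.card F) → ¬ t ∣ Nat.card K)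
    (h8 : ∀ t : ℕ, t.Prime → t ∣ mm (Fintype.card F) → t ∣ Nat.card S)
    {r : ℕ} (hr : r.Prime) (hr7 : 7 ≤ r) (h6 : r ∣ Fintype.card F ^ 6 - 1) (hn2 : ¬ r ∣ Fintype.card F ^ 2 - 1)
    (hmem : ∀ z x : G ⧸ K, orderOf z = r → Commute x z → x ∈ S)
    (hε : p = 3 ∨ (5 ≤ p ∧ ((Fintype.card F % 3 = 1 ∧ ¬ r ∣ Fintype.card F ^ 3 - 1) ∨
      (Fintype.card F % 3 = 2 ∧ ¬ r ∣ Fintype.card F ^ 3 + 1))))
    {b : ℕ} {g : G} (hg : p * (r * 2 ^ b) ∣ orderOf g) :
    ∃ x : Cfsg.POmega F (Cfsg.quadFormOdd 4 F), p * (r * 2 ^ b) ∣ orderOf x := by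
  classical
  have h2 : (2 : F) ≠ 0 := two_ne_zero_of_odd hodd
  set q := Fintype.card F with hq
  have hpq : p ∣ q := QMain.p_dvd_card (F := F)
  have hp3 : 3 ≤ p := by
    have h3 := hp.out.two_le
    rcases Nat.lt_or_ge 2 p with h | h
    · exact h
    · exfalso
      have : p = 2 := by omega
      rw [this] at hpq
      exact (Nat.not_even_iff_odd.2 hodd) (even_iff_two_dvd.2 hpq)
  have hq3 : 3 ≤ q := hp3.trans (Nat.le_of_dvd hodd.pos hpq)
  have hp2 : p ≠ 2 := by omega
  have hQ := nondeg_oddForm 4 F h2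
  obtain ⟨e₀⟩ := exists_nine (F := F) h2 hQ (by simp) rfl
  obtain ⟨e', φ, hφ, hφS, hφe⟩ : ∃ (e' : S ≃* Om (oddForm 4 F)) (φ : Om (oddForm 4 F) →* G ⧸ K),
      Function.Injective φ ∧ (∀ x, φ x ∈ S) ∧ ∀ s : S, φ (e' s) = s :=
    ⟨e.trans e₀, S.subtype.comp (e.trans e₀).symm.toMonoidHom, S.subtype_injective.comp (e.trans e₀).symm.injective,
      fun x => ((e.trans e₀).symm x).2, fun s => congrArg Subtype.val ((e.trans e₀).symm_apply_apply s)⟩
  -- an element of prime order dividing `mm q`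
  obtain ⟨t8, ht8, ht8m⟩ := exists_prime_mm (q := q) hq3
  have hf8 := Fact.mk ht8
  obtain ⟨s8, hs8⟩ := exists_prime_orderOf_dvd_card' (G := S) t8 (h8 t8 ht8 ht8m)
  obtain ⟨x8, hx8, hx8o⟩ := exists_lift K (s := (s8 : G ⧸ K)) (by
    rw [Subgroup.orderOf_coe, hs8]
    exact (Nat.Prime.coprime_iff_not_dvd ht8).2 (hK t8 ht8 ht8m))
  rw [Subgroup.orderOf_coe, hs8] at hx8o
  have hfree : ∀ k ∈ K, k ≠ 1 → ¬ Commute x8 k := by
    intro k hk hk1 hc
    have hne : orderOf k ≠ 1 := fun h => hk1 (orderOf_eq_one_iff.1 h)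
    obtain ⟨t, ht, htk⟩ := Nat.exists_prime_and_dvd hne
    obtain ⟨j, hj⟩ := htk
    have hj0 : j ≠ 0 := by
      rintro rfl
      exact (orderOf_pos k).ne' hj
    have hko : orderOf (k ^ j) = t := by
      rw [orderOf_pow_of_dvd hj0 ⟨t, by rw [hj, mul_comm]⟩, hj, Nat.mul_div_cancel _ (Nat.pos_of_ne_zero hj0)]
    have htK : t ∣ Nat.card K := by
      rw [← hko]
      exact Subgroup.orderOf_dvd_natCard K (K.pow_mem hk j)
    have htm : ¬ t ∣ mm q := fun h => hK t ht h htK
    have hne8 : t8 ≠ t := by rintro rfl; exact htm ht8m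
    have hmul : orderOf (x8 * k ^ j) = t8 * t := by
      rw [(hc.pow_right j).orderOf_mul_eq_mul_orderOf_of_coprime (by
        rw [hx8o, hko]; exact (Nat.coprime_primes ht8 ht).2 hne8), hx8o, hko]
    have h9 := (hom (x8 * k ^ j)).iso hp.out hp2 hpq hodd ht8 ht8m (by rw [hmul]; exact Nat.dvd_mul_right _ _)
    rw [hmul] at h9
    exact htm ((Dvd.intro_left _ rfl).trans h9)
  have hnil : Group.IsNilpotent K := nilp K ht8 hx8o hfree
  -- the action is faithful
  have hfaith : ∀ t : ℕ, t.Prime → t ∣ Nat.card K → ∀ s ∈ S, s ≠ 1 → ∃ v : zt K t, act K t s v ≠ v := by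
    intro t ht htK s hs hs1
    by_contra hcon
    push Not at hcon
    have hker : s ∈ (act K t).ker := MulEquiv.ext hcon
    have hN : (((act K t).ker).subgroupOf S) = ⊤ := by
      rcases (inferInstance : (((act K t).ker).subgroupOf S).Normal).eq_bot_or_eq_top with h | h
      · exfalso
        have h3 : (⟨s, hs⟩ : S) ∈ ((act K t).ker).subgroupOf S := hker
        rw [h] at h3
        exact hs1 (congrArg Subtype.val h3)
      · exact h
    have h3 : s8 ∈ ((act K t).ker).subgroupOf S := by rw [hN]; trivial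
    have h4 : act K t (s8 : G ⧸ K) = 1 := h3
    obtain ⟨v, hv, hv1⟩ := zt_ne_bot (K := K) hnil ht htK
    apply hfree v hv.1 hv1
    have h5 : act K t (x8 : G ⧸ K) ⟨v, hv⟩ = ⟨v, hv⟩ := by rw [hx8, h4]; rfl
    exact exists_commute K h5
  -- the Frobenius group `q² : 2^k`
  obtain ⟨L, instL, instLf, ζ, u, c, hL, hu, hζ, hco, hcu⟩ := exists_frob (F := F) h2 hQ (by simp)
  have hfrob : ∀ t : ℕ, t.Prime → t ≠ p → t ∣ Nat.card K →
      ∃ y : G, 2 ^ padicValNat 2 (q ^ 2 - 1) * t ∣ orderOf y := by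
    intro t ht htp htK
    have hci : ∀ (i : ℕ) (β : L), c ^ i * u (Multiplicative.ofAdd β) =
        u (Multiplicative.ofAdd (((ζ ^ i : Lˣ) : L) * β)) * c ^ i := by
      intro i
      induction i with
      | zero => intro β; simp
      | succ i ih =>
        intro β
        rw [pow_succ', mul_assoc, ih, ← mul_assoc, hcu, mul_assoc, pow_succ' ζ, Units.val_mul, mul_assoc (ζ : L)]
    obtain ⟨y, hy⟩ := exists_dvd_of_frob K ht ((φ.comp u).range) (c := φ c) (by
      rintro _ ⟨β, rfl⟩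
      refine ⟨Multiplicative.ofAdd ((ζ : L) * β.toAdd), ?_⟩
      have h3 := congrArg φ (hcu β.toAdd)
      rw [map_mul, map_mul] at h3
      exact (mul_inv_eq_iff_eq_mul.2 h3).symm) (by
      rintro i hi0 hi _ ⟨β, rfl⟩ hcomm
      rw [orderOf_injective φ hφ, hco, ← hζ] at hi
      have hcomm' : φ (c ^ i * u β) = φ (u β * c ^ i) := by
        rw [map_mul, map_mul, map_pow]
        exact hcomm
      have h3 := hφ hcomm'
      have h4 := hci i β.toAdd
      have h5 : u (Multiplicative.ofAdd (((ζ ^ i : Lˣ) : L) * β.toAdd)) * c ^ i = u β * c ^ i := by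
        rw [← h4]; exact h3
      have h7 : (((ζ ^ i : Lˣ) : L) * β.toAdd) = β.toAdd := hu (mul_right_cancel h5)
      by_cases hβ : β.toAdd = 0
      · have : β = 1 := hβ
        rw [this, map_one]
      · exfalso
        have h9 : ((ζ ^ i : Lˣ) : L) = 1 := mul_right_cancel₀ hβ (by rw [h7, one_mul])
        exact pow_ne_one_of_lt_orderOf hi0.ne' hi (Units.ext h9)) (by
      have h3 : Nat.card ((φ.comp u).range) ∣ q ^ 2 := by
        have h4 := Subgroup.card_range_dvd (φ.comp u)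
        rwa [Nat.card_congr (Multiplicative.toAdd (α := L)), hL] at h4
      obtain ⟨n, -, hn⟩ := FiniteField.card F p
      rw [← hq] at hn
      rw [hn, ← pow_mul] at h3
      exact Nat.Coprime.coprime_dvd_left h3 (Nat.Coprime.pow_left _ ((Nat.coprime_primes hp.out ht).2 htp.symm))) (by
      refine ⟨φ (u (Multiplicative.ofAdd 1)), ⟨_, rfl⟩, ?_⟩
      apply hfaith t ht htK _ (hφS _)
      intro h3
      have h4 : u (Multiplicative.ofAdd 1) = u 1 := by
        rw [map_one u]
        exact hφ (by rw [h3, map_one])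
      have h5 : (1 : L) = 0 := hu h4
      exact one_ne_zero h5)
    refine ⟨y, ?_⟩
    rwa [orderOf_injective φ hφ, hco] at hy
  have hrne : r ≠ p := by
    rintro rfl
    exact (six_facts (q := q) (by omega) hr h6 hn2).2.1 hpq
  have h2K : ¬ 2 ∣ Nat.card K := by
    intro h
    obtain ⟨y, hy⟩ := hfrob 2 Nat.prime_two hp2.symm h
    exact no_c hp.out hp2 hodd hq3 (hom y) hy
  have hrK : ¬ r ∣ Nat.card K := by
    intro h
    obtain ⟨y, hy⟩ := hfrob r hr hrne h
    exact no_b hp.out hp2 hpq hodd hq3 hr h6 hn2 (by omega) (hom y) hy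
  -- the Frobenius group `2⁶ : 9`
  have h3K : p = 3 → ¬ 3 ∣ Nat.card K := by
    intro hp3' h
    obtain ⟨c', e9, hc', he9⟩ := exists_frame (n := 9) h2 (by decide) hQ (by simp)
    have h9odd : Odd 9 := by decide
    obtain ⟨φ9, hφ9, hφ9S⟩ : ∃ φ9 : Om (D F 9 c') →* G ⧸ K, Function.Injective φ9 ∧ ∀ x, φ9 x ∈ S :=
      ⟨φ.comp (omCongr he9).toMonoidHom, hφ.comp (omCongr he9).injective, fun x => hφS _⟩
    obtain ⟨y, hy⟩ := exists_dvd_of_frob K Nat.prime_three ((φ9.comp (psi 9 3 c')).range)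
      (c := φ9 (ro h9odd h2 hc')) (by
      rintro _ ⟨t, rfl⟩
      refine ⟨fun i => t (i + 1), ?_⟩
      have h3 := congrArg φ9 (ro_psi (m := 3) h9odd h2 hc' t)
      rw [map_mul, map_mul] at h3
      exact (mul_inv_eq_iff_eq_mul.2 h3).symm) (by
      rintro i hi0 hi _ ⟨t, rfl⟩ hcomm
      rw [orderOf_injective φ9 hφ9, orderOf_ro] at hi
      have hcomm' : φ9 (ro h9odd h2 hc' ^ i * psi 9 3 c' t) = φ9 (psi 9 3 c' t * ro h9odd h2 hc' ^ i) := by
        rw [map_mul, map_mul, map_pow]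
        exact hcomm
      rw [MonoidHom.comp_apply, ro_free (n := 9) (m := 3) h9odd h2 hc' rfl (nine_free i hi0 hi) t (hφ9 hcomm'),
        map_one]) (by
      have h3 : Nat.card ((φ9.comp (psi 9 3 c')).range) ∣ 2 ^ 9 := by
        have h4 := Subgroup.card_range_dvd (φ9.comp (psi 9 3 c'))
        have h5 : Nat.card (ZMod 9 → ℤˣ) = 2 ^ 9 := by
          rw [Nat.card_fun, Nat.card_zmod]
          simp
        rwa [h5] at h4
      exact Nat.Coprime.coprime_dvd_left h3 (by norm_num)) (by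
      let t0 : ZMod 9 → ℤˣ := fun i => if i = 0 then -1 else 1
      refine ⟨φ9 (psi 9 3 c' t0), ⟨_, rfl⟩, ?_⟩
      apply hfaith 3 Nat.prime_three h _ (hφ9S _)
      intro h3
      have h4 : psi 9 3 c' t0 = 1 := hφ9 (by rw [map_one]; exact h3)
      have h5 := congrArg Subtype.val h4
      rw [psi_coe] at h5
      have h7 : ds F (t0 * (fun i : ZMod 9 => t0 (i + ((3 : ℕ) : ZMod 9)))⁻¹) = ds F (1 : ZMod 9 → ℤˣ) := by
        rw [h5, ds_one]; rfl
      have h9 := congrFun (ds_inj h2 h7) 0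
      revert h9
      decide)
    rw [orderOf_injective φ9 hφ9, orderOf_ro] at hy
    subst hp3'
    exact no_e hpq hodd (hom y) hy
  -- the element of order `r`
  have hrg : r ∣ orderOf g := (Dvd.intro _ rfl).trans ((Dvd.intro_left _ rfl).trans hg)
  obtain ⟨j, hj⟩ := hrg
  have hj0 : j ≠ 0 := by
    rintro rfl
    exact (orderOf_pos g).ne' hj
  set a := g ^ j with ha
  have hao : orderOf a = r := by
    rw [ha, orderOf_pow_of_dvd hj0 ⟨r, by rw [hj, mul_comm]⟩, hj, Nat.mul_div_cancel _ (Nat.pos_of_ne_zero hj0)]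
  have hzo : orderOf (a : G ⧸ K) = r := by
    have h3 : orderOf (a : G ⧸ K) ∣ r := by
      rw [← hao]
      exact orderOf_map_dvd (QuotientGroup.mk' K) a
    rcases (Nat.dvd_prime hr).1 h3 with h4 | h4
    · exfalso
      rw [orderOf_eq_one_iff, QuotientGroup.eq_one_iff] at h4
      apply hrK
      rw [← hao]
      exact Subgroup.orderOf_dvd_natCard K h4
    · exact h4
  have hzS : (a : G ⧸ K) ∈ S := hmem _ _ hzo (Commute.refl _)
  by_cases hex : ∃ k ∈ K, orderOf k = p ∧ Commute k a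
  · exfalso
    rcases hε with h3 | ⟨h5, hε⟩
    · obtain ⟨k, hkK, hko, -⟩ := hex
      apply h3K h3
      rw [← h3, ← hko]
      exact Subgroup.orderOf_dvd_natCard K hkK
    · have h3F : (3 : F) ≠ 0 := by
        intro h3
        have h4 : p ∣ 3 := (CharP.cast_eq_zero_iff F p 3).1 (by exact_mod_cast h3)
        have := Nat.le_of_dvd (by norm_num) h4
        omega
      -- the linear map of `a`
      have hcoe : φ (e' ⟨(a : G ⧸ K), hzS⟩) = (a : G ⧸ K) := hφe _
      obtain ⟨c3, hc3, f3, hf3, hcomm⟩ := exists_three (F := F) h2 hQ (by simp) hr h6 hn2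
        (a := ((e' ⟨(a : G ⧸ K), hzS⟩ : Om (oddForm 4 F)) : _ ≃ₗ[F] _)) (Om_le_O _ (e' ⟨(a : G ⧸ K), hzS⟩).2) (by
          rw [Subgroup.orderOf_coe, MulEquiv.orderOf_eq, ← Subgroup.orderOf_coe]
          exact hzo)
      obtain ⟨x, hx⟩ := case_a (K := K) hnil hr hp.out hrK hrne (by omega) (by omega) hao (φ.comp f3)
        (hφ.comp hf3) (by
          intro x
          show φ (f3 x) * (a : G ⧸ K) = (a : G ⧸ K) * φ (f3 x)
          rw [← hcoe, ← map_mul, ← map_mul]
          congr 1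
          exact Subtype.ext (hcomm x).symm) (by
          intro W _ θ hW hW1
          exact exists_fixed h2 h3F hc3 θ hW ((Nat.coprime_primes Nat.prime_two hp.out).2 hp2.symm) hW1) hex
      exact no_d hp.out h5 hpq hodd hr h6 hn2 hr7 hε (hom x) hx
  · -- the order modulo `K`
    have hcop : (orderOf (g ^ orderOf (g : G ⧸ K))).Coprime (p * (r * 2 ^ b)) := by
      obtain ⟨k, hk, hk', hkK⟩ := exists_order K g
      have hkd : orderOf (g ^ orderOf (g : G ⧸ K)) ∣ Nat.card K := Subgroup.orderOf_dvd_natCard K hkK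
      apply Nat.Coprime.mul_right
      · apply Nat.Coprime.symm
        rw [Nat.Prime.coprime_iff_not_dvd hp.out]
        intro h3
        apply hex
        obtain ⟨i, hi⟩ := h3
        have hi0 : i ≠ 0 := by
          rintro rfl
          exact (orderOf_pos _).ne' hi
        refine ⟨(g ^ orderOf (g : G ⧸ K)) ^ i, K.pow_mem hkK i, ?_, ?_⟩
        · rw [orderOf_pow_of_dvd hi0 ⟨p, by rw [hi, mul_comm]⟩, hi, Nat.mul_div_cancel _ (Nat.pos_of_ne_zero hi0)]
        · rw [ha, ← pow_mul]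
          exact (Commute.refl g).pow_pow _ _
      · apply Nat.Coprime.mul_right
        · apply Nat.Coprime.symm
          rw [Nat.Prime.coprime_iff_not_dvd hr]
          exact fun h3 => hrK (h3.trans hkd)
        · apply Nat.Coprime.pow_right
          apply Nat.Coprime.symm
          rw [Nat.Prime.coprime_iff_not_dvd Nat.prime_two]
          exact fun h3 => h2K (h3.trans hkd)
    have hd := dvd_order K hg hcop
    have hgS : (g : G ⧸ K) ∈ S := by
      apply hmem _ _ hzo
      rw [ha, QuotientGroup.mk_pow]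
      exact (Commute.refl _).pow_right _
    refine ⟨e ⟨(g : G ⧸ K), hgS⟩, ?_⟩
    rw [MulEquiv.orderOf_eq, ← Subgroup.orderOf_coe]
    exact hd

end Main

end Cfsg.Agent.H229.T
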