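import Mathlib
import Cfsg.Agent.Lib.Zsigmondy
import Cfsg.Agent.H229.T.Half
import Cfsg.Agent.H229.T.Upper

/-!
# `ω(G) = ω(PSp₈(q))`, section `Ω₉(q)`, modulo the automorphism half (helper229)
-/

set_option autoImplicit false
set_option linter.unusedSectionVars false

namespace Cfsg.Agent.H229.T

open Cfsg.Agent.H202.T
open QuadraticMap Module
open Cfsg.Agent.LieClassical.OrthCore Cfsg.Agent.LieClassical.OrthForms Cfsg.Agent.LieClassical.OrthFinite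
open Cfsg.Agent.H160 Cfsg.Agent.H160.QSpin Cfsg.Agent.H160.QDisc

section Arith

/-- a prime with `p` of order `6 f` -/
theorem exists_six {p f : ℕ} (hp : p.Prime) (hp2 : p ≠ 2) (hf : 1 ≤ f) :
    ∃ r : ℕ, r.Prime ∧ 7 ≤ r ∧ orderOf (p : ZMod r) = 6 * f ∧ r ∣ (p ^ f) ^ 3 + 1 ∧ ¬ r ∣ (p ^ f) ^ 3 - 1 ∧
      r ∣ (p ^ f) ^ 6 - 1 ∧ ¬ r ∣ (p ^ f) ^ 2 - 1 := by
  obtain ⟨r, hr, hro⟩ := Lib.Zsigmondy.exists_prime_orderOf (a := p) (n := 6 * f) hp.two_le (by omega)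
    (by intro h; omega) (by rintro ⟨h, -⟩; exact hp2 h)
  have hrf := Fact.mk hr
  have hp0 : (p : ZMod r) ≠ 0 := by
    intro h
    rw [h] at hro
    by_cases h1 : (0 : ZMod r) = 1
    · exact zero_ne_one h1
    · have : orderOf (0 : ZMod r) = 0 := orderOf_eq_zero_iff'.2 (by
        intro n hn
        rw [zero_pow (by omega)]
        exact zero_ne_one)
      omega
  have hdvd : ∀ k, r ∣ p ^ k - 1 ↔ 6 * f ∣ k := by
    intro k
    rw [← hro, orderOf_dvd_iff_pow_eq_one, ← ZMod.natCast_eq_zero_iff, Nat.cast_sub (Nat.one_le_pow _ _ hp.pos)]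
    push_cast
    rw [sub_eq_zero]
  have hr7 : 7 ≤ r := by
    have h1 : 6 * f ∣ r - 1 := by
      rw [← hro]
      exact ZMod.orderOf_dvd_card_sub_one hp0
    have h2 := Nat.le_of_dvd (by have := hr.two_le; omega) h1
    omega
  have h6 : r ∣ (p ^ f) ^ 6 - 1 := by
    rw [← pow_mul, hdvd, mul_comm]
  have hn3 : ¬ r ∣ (p ^ f) ^ 3 - 1 := by
    rw [← pow_mul, hdvd]
    intro h
    have := Nat.le_of_dvd (by omega) h
    omega
  have hn2 : ¬ r ∣ (p ^ f) ^ 2 - 1 := by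
    rw [← pow_mul, hdvd]
    intro h
    have := Nat.le_of_dvd (by omega) h
    omega
  refine ⟨r, hr, hr7, hro, ?_, hn3, h6, hn2⟩
  have e : (p ^ f) ^ 6 - 1 = ((p ^ f) ^ 3 + 1) * ((p ^ f) ^ 3 - 1) := by
    have := Nat.sq_sub_sq ((p ^ f) ^ 3) 1
    rw [← pow_mul] at this
    simpa using this
  rw [e] at h6
  exact (hr.dvd_mul.1 h6).resolve_right hn3

/-- a prime with `p` of order `3 f`, `f` odd -/
theorem exists_three_prime {p f : ℕ} (hp : p.Prime) (hp2 : p ≠ 2) (hf : 1 ≤ f) :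
    ∃ r : ℕ, r.Prime ∧ 7 ≤ r ∧ orderOf (p : ZMod r) = 3 * f ∧ r ∣ (p ^ f) ^ 3 - 1 ∧ ¬ r ∣ (p ^ f) ^ 3 + 1 ∧
      r ∣ (p ^ f) ^ 6 - 1 ∧ ¬ r ∣ (p ^ f) ^ 2 - 1 := by
  obtain ⟨r, hr, hro⟩ := Lib.Zsigmondy.exists_prime_orderOf (a := p) (n := 3 * f) hp.two_le (by omega)
    (by intro h; omega) (by rintro ⟨h, -⟩; exact hp2 h)
  have hrf := Fact.mk hr
  have hp0 : (p : ZMod r) ≠ 0 := by
    intro h
    rw [h] at hro
    by_cases h1 : (0 : ZMod r) = 1
    · exact zero_ne_one h1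
    · have : orderOf (0 : ZMod r) = 0 := orderOf_eq_zero_iff'.2 (by
        intro n hn
        rw [zero_pow (by omega)]
        exact zero_ne_one)
      omega
  have hdvd : ∀ k, r ∣ p ^ k - 1 ↔ 3 * f ∣ k := by
    intro k
    rw [← hro, orderOf_dvd_iff_pow_eq_one, ← ZMod.natCast_eq_zero_iff, Nat.cast_sub (Nat.one_le_pow _ _ hp.pos)]
    push_cast
    rw [sub_eq_zero]
  have hr1 : 3 * f ∣ r - 1 := by
    rw [← hro]
    exact ZMod.orderOf_dvd_card_sub_one hp0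
  have hr2 : r ≠ 2 := by
    rintro rfl
    have h2 := Nat.le_of_dvd (by norm_num) hr1
    omega
  have hr7 : 7 ≤ r := by
    obtain ⟨k, hk⟩ := hr.odd_of_ne_two hr2
    have h3 : 3 ∣ r - 1 := (Nat.dvd_mul_right 3 f).trans hr1
    have := hr.two_le
    omega
  have h3 : r ∣ (p ^ f) ^ 3 - 1 := by
    rw [← pow_mul, hdvd, mul_comm]
  have hn3 : ¬ r ∣ (p ^ f) ^ 3 + 1 := by
    intro h
    have h4 := Nat.dvd_sub h h3
    have h5 : 1 ≤ (p ^ f) ^ 3 := Nat.one_le_pow _ _ (pow_pos hp.pos f)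
    have h6 : (p ^ f) ^ 3 + 1 - ((p ^ f) ^ 3 - 1) = 2 := by omega
    rw [h6] at h4
    exact hr2 ((Nat.prime_dvd_prime_iff_eq hr Nat.prime_two).1 h4)
  have h6 : r ∣ (p ^ f) ^ 6 - 1 := by
    rw [← pow_mul, hdvd]
    exact ⟨2, by ring⟩
  have hn2 : ¬ r ∣ (p ^ f) ^ 2 - 1 := by
    rw [← pow_mul, hdvd]
    intro h
    have := Nat.le_of_dvd (by omega) h
    omega
  exact ⟨r, hr, hr7, hro, h3, hn3, h6, hn2⟩

/-- the full two-part -/
theorem exists_two_part {N r : ℕ} (hN : N ≠ 0) (hr : r.Prime) (hr2 : r ≠ 2) (h : r ∣ N) :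
    ∃ b, r * 2 ^ b ∣ N ∧ ¬ 2 * (r * 2 ^ b) ∣ N := by
  obtain ⟨b, m, hm, hbm⟩ := Nat.exists_eq_two_pow_mul_odd hN
  refine ⟨b, ?_, ?_⟩
  · apply Nat.Coprime.mul_dvd_of_dvd_of_dvd
    · exact Nat.Coprime.pow_right b ((Nat.coprime_primes hr Nat.prime_two).2 hr2)
    · exact h
    · exact ⟨m, hbm⟩
  · intro h1
    have h2 : 2 ^ b * 2 ∣ 2 ^ b * m := by
      rw [← hbm]
      exact Dvd.dvd.trans ⟨r, by ring⟩ h1
    have h3 := Nat.dvd_of_mul_dvd_mul_left (by positivity) h2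
    exact Nat.not_even_iff_odd.2 hm (even_iff_two_dvd.2 h3)

end Arith

section Main

universe u

variable {F : Type*} [Field F] [Fintype F] {p : ℕ} [hp : Fact p.Prime] [CharP F p]

theorem final_aux (hodd : Odd (Fintype.card F)) {f : ℕ} (hF : Fintype.card F = p ^ f)
    {G : Type u} [Group G] [Finite G] {K : Subgroup G} [K.Normal]
    {S : Subgroup (G ⧸ K)} [S.Normal] (hS : IsSimpleGroup S)
    (e : ↥S ≃* Cfsg.POmega F (Cfsg.quadFormOdd 4 F))
    (hom : ∀ x : G, InL p (Fintype.card F) (orderOf x))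
    (hK : ∀ t : ℕ, t.Prime → t ∣ mm (Fintype.card F) → ¬ t ∣ Nat.card K)
    (h8 : ∀ t : ℕ, t.Prime → t ∣ mm (Fintype.card F) → t ∣ Nat.card S)
    (hmem : ∀ r d : ℕ, r.Prime → (4 < d ∨ (8 < 3 * d ∧ Odd f)) → orderOf (p : ZMod r) = d * f →
      ∀ z x : G ⧸ K, orderOf z = r → Commute x z → x ∈ S)
    (hplus : ∃ g : G, orderOf g = p * (Fintype.card F ^ 3 + 1))
    (hminus : ∃ g : G, orderOf g = p * (Fintype.card F ^ 3 - 1)) : False := by
  classical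
  have h2 : (2 : F) ≠ 0 := two_ne_zero_of_odd hodd
  have hq0 : 0 < Fintype.card F := Fintype.card_pos
  have hpq : p ∣ Fintype.card F := QMain.p_dvd_card (F := F)
  have hp2 : p ≠ 2 := by
    rintro rfl
    exact (Nat.not_even_iff_odd.2 hodd) (even_iff_two_dvd.2 hpq)
  have hf : 1 ≤ f := by
    rcases Nat.eq_zero_or_pos f with rfl | h
    · rw [pow_zero] at hF
      rw [hF] at hpq
      exact absurd (Nat.dvd_one.1 hpq) hp.out.one_lt.ne'
    · exact h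
  have hQ := nondeg_oddForm 4 F h2
  obtain ⟨e₀⟩ := exists_nine (F := F) h2 hQ (by simp) rfl
  -- the contradiction for one sign
  have key : ∀ (r b N : ℕ), r.Prime → 7 ≤ r → r ∣ Fintype.card F ^ 6 - 1 → ¬ r ∣ Fintype.card F ^ 2 - 1 →
      (r ∣ Fintype.card F ^ 3 - 1 ∨ r ∣ Fintype.card F ^ 3 + 1) →
      (∀ z x : G ⧸ K, orderOf z = r → Commute x z → x ∈ S) →
      (p = 3 ∨ (5 ≤ p ∧ ((Fintype.card F % 3 = 1 ∧ ¬ r ∣ Fintype.card F ^ 3 - 1) ∨
        (Fintype.card F % 3 = 2 ∧ ¬ r ∣ Fintype.card F ^ 3 + 1)))) →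
      (∃ g : G, orderOf g = p * N) → r * 2 ^ b ∣ N →
      2 * (r * 2 ^ b) ∣ Fintype.card F ^ 3 - 1 ∨ 2 * (r * 2 ^ b) ∣ Fintype.card F ^ 3 + 1 := by
    rintro r b N hr hr7 h6 hn2 h3 hm hε ⟨g, hg⟩ hbN
    obtain ⟨x, hx⟩ := k_half hodd hS e hom hK h8 hr hr7 h6 hn2 hm hε (b := b) (g := g)
      (by rw [hg]; exact Nat.mul_dvd_mul_left p hbN)
    have hxo : p ^ 1 * (r * 2 ^ b) ∣ orderOf (e₀ x).1 := by
      rw [Subgroup.orderOf_coe, MulEquiv.orderOf_eq, pow_one]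
      exact hx
    refine upper (p := p) h2 hQ (m := 3) (t := 3) (j := 1) (by norm_num) (by norm_num) (by decide) (by simp) hr
      (by omega) h3 ?_ le_rfl (by simp) (e₀ x).2 hxo
    intro d _ hd
    exact three_dvd hq0 hr h6 hn2 hd
  have hq1 : 1 ≤ Fintype.card F ^ 3 := Nat.one_le_pow _ _ hq0
  by_cases hsign : p = 3 ∨ Fintype.card F % 3 = 1
  · -- sign plus
    obtain ⟨r, hr, hr7, hro, h3, hn3, h6, hn2⟩ := exists_six hp.out hp2 hf
    rw [← hF] at h3 hn3 h6 hn2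
    obtain ⟨b, hb1, hb2⟩ := exists_two_part (by omega) hr (by omega) h3
    have hε : p = 3 ∨ (5 ≤ p ∧ ((Fintype.card F % 3 = 1 ∧ ¬ r ∣ Fintype.card F ^ 3 - 1) ∨
        (Fintype.card F % 3 = 2 ∧ ¬ r ∣ Fintype.card F ^ 3 + 1))) := by
      by_cases hp3 : p = 3
      · exact Or.inl hp3
      · right
        refine ⟨?_, Or.inl ⟨hsign.resolve_left hp3, hn3⟩⟩
        have h4 := hp.out.two_le
        have h5 : p ≠ 4 := by rintro h; exact absurd hp.out (by rw [h]; norm_num)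
        omega
    rcases key r b _ hr hr7 h6 hn2 (Or.inr h3) (hmem r 6 hr (Or.inl (by norm_num)) hro) hε hplus hb1 with h | h
    · exact hn3 ((Dvd.intro_left _ (by ring : 2 * 2 ^ b * r = 2 * (r * 2 ^ b))).trans h)
    · exact hb2 h
  · -- sign minus
    push Not at hsign
    obtain ⟨hp3, hq3⟩ := hsign
    have hq30 : Fintype.card F % 3 ≠ 0 := by
      intro h
      have h3 : 3 ∣ p ^ f := by rw [← hF]; exact Nat.dvd_of_mod_eq_zero h
      exact hp3 ((Nat.prime_dvd_prime_iff_eq Nat.prime_three hp.out).1 (Nat.prime_three.dvd_of_dvd_pow h3)).symm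
    have hq2 : Fintype.card F % 3 = 2 := by omega
    have hfo : Odd f := by
      by_contra hcon
      rw [Nat.not_odd_iff_even] at hcon
      obtain ⟨k, rfl⟩ := hcon
      have hp30 : ¬ 3 ∣ p := fun h => hp3 ((Nat.prime_dvd_prime_iff_eq Nat.prime_three hp.out).1 h).symm
      rw [hF, ← two_mul, pow_mul, Nat.pow_mod] at hq2
      have h3 : p ^ 2 % 3 = 1 := by
        rw [Nat.pow_mod]
        have : p % 3 = 1 ∨ p % 3 = 2 := by omega
        rcases this with h | h <;> rw [h]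
      rw [h3] at hq2
      simp at hq2
    obtain ⟨r, hr, hr7, hro, h3, hn3, h6, hn2⟩ := exists_three_prime hp.out hp2 hf
    rw [← hF] at h3 hn3 h6 hn2
    have hq3' : Fintype.card F ^ 3 - 1 ≠ 0 := by
      intro h
      have : Fintype.card F ^ 3 = 1 := by omega
      have h4 : Fintype.card F = 1 := (Nat.pow_eq_one.1 this).resolve_right (by norm_num)
      rw [h4] at hq2
      norm_num at hq2
    obtain ⟨b, hb1, hb2⟩ := exists_two_part hq3' hr (by omega) h3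
    have hε : p = 3 ∨ (5 ≤ p ∧ ((Fintype.card F % 3 = 1 ∧ ¬ r ∣ Fintype.card F ^ 3 - 1) ∨
        (Fintype.card F % 3 = 2 ∧ ¬ r ∣ Fintype.card F ^ 3 + 1))) := by
      right
      refine ⟨?_, Or.inr ⟨hq2, hn3⟩⟩
      have h4 := hp.out.two_le
      have h5 : p ≠ 4 := by rintro h; exact absurd hp.out (by rw [h]; norm_num)
      omega
    rcases key r b _ hr hr7 h6 hn2 (Or.inl h3) (hmem r 3 hr (Or.inr ⟨by norm_num, hfo⟩) hro) hε hminus hb1 with h | h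
    · exact hb2 h
    · exact hn3 ((Dvd.intro_left _ (by ring : 2 * 2 ^ b * r = 2 * (r * 2 ^ b))).trans h)

end Main

end Cfsg.Agent.H229.T
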