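import Mathlib
import Cfsg.Agent.H229.T.FinalAux
import Cfsg.Agent.H481.OddAut.Main
import Cfsg.Agent.S0295

/-!
# `ω(G) = ω(PSp₈(q))`: the section is not `Ω₉(q)` (helper229; automorphism half by helper481)
-/

set_option autoImplicit false
set_option linter.unusedSectionVars false

namespace Cfsg.Agent.H229.T

open Cfsg.Agent.H202.T

universe u

variable {F : Type*} [Field F] [Fintype F] {p : ℕ} [hp : Fact p.Prime] [CharP F p]

/-- **T-I.** -/
theorem no_oodd (hodd : Odd (Fintype.card F)) {G : Type u} [Group G] [Finite G] {K : Subgroup G} [K.Normal]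
    {S : Subgroup (G ⧸ K)} [S.Normal] (hcent : Subgroup.centralizer (S : Set (G ⧸ K)) = ⊥)
    (e : ↥S ≃* Cfsg.POmega F (Cfsg.quadFormOdd 4 F))
    (hom : ∀ x : G, InL p (Fintype.card F) (orderOf x))
    (hK : ∀ t : ℕ, t.Prime → t ∣ mm (Fintype.card F) → ¬ t ∣ Nat.card K)
    (h8 : ∀ t : ℕ, t.Prime → t ∣ mm (Fintype.card F) → t ∣ Nat.card S)
    (hplus : ∃ g : G, orderOf g = p * (Fintype.card F ^ 3 + 1))
    (hminus : ∃ g : G, orderOf g = p * (Fintype.card F ^ 3 - 1)) : False := by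
  classical
  have hS : IsSimpleGroup S := by
    have h1 := Cfsg.Agent.S0295.result (F := F) hodd 4 (by norm_num)
    exact e.isSimpleGroup_congr.2 h1
  have hpq : p ∣ Fintype.card F := Cfsg.Agent.H160.QMain.p_dvd_card (F := F)
  have hp2 : p ≠ 2 := by
    rintro rfl
    exact (Nat.not_even_iff_odd.2 hodd) (even_iff_two_dvd.2 hpq)
  obtain ⟨n, -, hn⟩ := FiniteField.card F p
  have hq3 : 3 ≤ Fintype.card F := by
    have h1 := Nat.le_of_dvd Fintype.card_pos hpq
    have h2 := hp.out.two_le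
    omega
  obtain ⟨s, hs, hsm⟩ := exists_prime_mm (q := Fintype.card F) hq3
  have hs2 : s ≠ 2 := ne_two_of_dvd hodd hsm
  have hsp : s ≠ p := by
    rintro rfl
    exact not_dvd_q hodd hs hsm hpq
  refine final_aux hodd hn hS e hom hK h8 ?_ hplus hminus
  intro r d hr hd hro z x hz hx
  refine Cfsg.Agent.H481.OddAut.mem hn hodd (n := 4) (by norm_num) S hcent e hs hs2 hsp (h8 s hs hsm) ?_ hr ?_ hro hz hx
  · intro y hy
    obtain ⟨g, rfl⟩ := QuotientGroup.mk_surjective y
    have h1 : 2 * s ∣ orderOf g := by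
      rw [← hy]
      exact orderOf_map_dvd (QuotientGroup.mk' K) g
    have h2 := (hom g).iso hp.out hp2 hpq hodd hs hsm ((Dvd.intro_left _ rfl).trans h1)
    have h3 : 2 ∣ mm (Fintype.card F) := ((Dvd.intro _ rfl).trans h1).trans h2
    exact (ne_two_of_dvd hodd h3) rfl
  · rcases hd with h | h
    · exact Or.inl h
    · exact Or.inr ⟨by omega, h.2⟩

end Cfsg.Agent.H229.T
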