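import Mathlib
import Cfsg.Agent.H229.T.Upper

/-!
# The centralizer in `Ω_{2m+t}(q)` of an element of prime order `r` contains `Ω_t(q)` (helper229)

General version of `T/Cent.lean`: `m ∣ d` for all `d` with `r ∣ q ^ d ± 1`, `t < 2 m` odd.
-/

set_option autoImplicit false
set_option linter.unusedSectionVars false

namespace Cfsg.Agent.H229.T

open QuadraticMap Module
open Cfsg.Agent.LieClassical.OrthCore Cfsg.Agent.LieClassical.OrthForms Cfsg.Agent.LieClassical.OrthFinite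
open Cfsg.Agent.H160 Cfsg.Agent.H160.QSpin Cfsg.Agent.H160.QDisc

/-- `m ∣ d` if `r ∣ q ^ d ± 1`, where `r ∣ q ^ (2 m) - 1` and the order of `q` mod `r` is `2 m`, or `m` odd -/
theorem prim_dvd {q m r : ℕ} (hq : 0 < q) (h : orderOf (q : ZMod r) = 2 * m ∨ (orderOf (q : ZMod r) = m ∧ Odd m)) :
    ∀ d, 0 < d → (r ∣ q ^ d - 1 ∨ r ∣ q ^ d + 1) → m ∣ d := by
  intro d _ hd
  have h2d : r ∣ q ^ (2 * d) - 1 := by
    have e : q ^ (2 * d) - 1 = (q ^ d + 1) * (q ^ d - 1) := by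
      rw [mul_comm 2 d, pow_mul]
      simpa using Nat.sq_sub_sq (q ^ d) 1
    rw [e]
    rcases hd with h | h
    · exact h.mul_left _
    · exact h.mul_right _
  have h3 : orderOf (q : ZMod r) ∣ 2 * d := by
    rw [orderOf_dvd_iff_pow_eq_one, ← sub_eq_zero]
    have h4 : ((q ^ (2 * d) - 1 : ℕ) : ZMod r) = 0 := (ZMod.natCast_eq_zero_iff _ _).2 h2d
    rw [Nat.cast_sub (Nat.one_le_pow _ _ hq)] at h4
    push_cast at h4
    exact h4
  rcases h with h | ⟨h, ho⟩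
  · rw [h] at h3
    exact Nat.dvd_of_mul_dvd_mul_left (by norm_num) h3
  · rw [h] at h3
    exact (Nat.coprime_two_right.2 ho).dvd_of_dvd_mul_left h3

variable {F : Type*} [Field F] [Fintype F] [DecidableEq F]

/-- **`Ω_t(q)` in the centralizer.** -/
theorem exists_cent (h2 : (2 : F) ≠ 0) {V : Type*} [AddCommGroup V] [Module F V] [FiniteDimensional F V] [Finite V]
    {Q : QuadraticForm F V} (hQ : Nondeg Q) {m r t : ℕ} [NeZero t] (hm : 1 ≤ m) (ht : t < 2 * m) (hto : Odd t)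
    (hV : finrank F V = 2 * m + t) (hr : r.Prime) (hr2 : r ≠ 2)
    (hrq : r ∣ Fintype.card F ^ m - 1 ∨ r ∣ Fintype.card F ^ m + 1)
    (hprim : ∀ d, 0 < d → (r ∣ Fintype.card F ^ d - 1 ∨ r ∣ Fintype.card F ^ d + 1) → m ∣ d)
    {a : V ≃ₗ[F] V} (ha : a ∈ O Q) (hao : orderOf a = r) :
    ∃ (c : F) (_ : c ≠ 0) (f : Om (D F t c) →* Om Q), Function.Injective f ∧
      ∀ h, a * ((f h : Om Q) : V ≃ₗ[F] V) = ((f h : Om Q) : V ≃ₗ[F] V) * a := by
  obtain ⟨p, hpF⟩ := CharP.exists F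
  have hp : Fact p.Prime := ⟨CharP.char_is_prime F p⟩
  have hq0 : 0 < Fintype.card F := Fintype.card_pos
  have hrp : r ≠ p := by
    rintro rfl
    exact not_dvd_two_mul hr hq0 hm hrq (QMain.p_dvd_card (F := F) (p := r))
  obtain ⟨Q₁, Q₂, a₁, e, hQ₁, hQ₂, he, hae, -, -, -⟩ := split_a (p := p) hQ hm ht hV hr hr2 hrp hprim ha hao
  obtain ⟨c, e2, hc, he2⟩ := exists_frame (n := t) h2 hto hQ₂ (by simp)
  refine ⟨c, hc, ((omCongr he).toMonoidHom.comp (omRight h2 hQ₁ hQ₂)).comp (omCongr he2).toMonoidHom, ?_, ?_⟩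
  · exact ((omCongr he).injective.comp (omRight_injective h2 hQ₁ hQ₂)).comp (omCongr he2).injective
  · intro h
    show a * cj e (pr 1 (omCongr he2 h).1) = cj e (pr 1 (omCongr he2 h).1) * a
    rw [hae, ← cj_mul, ← cj_mul, ← pr_mul, ← pr_mul, one_mul, mul_one, mul_one, one_mul]

end Cfsg.Agent.H229.T
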